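import Cfsg.Agent.Lib.Perm.Zass.SLFive
import Cfsg.Agent.Lib.Transfer.SLTwoThree
import Cfsg.Agent.Lib.Classical.PSLSimple
import Cfsg.Agent.Lib.Classical.Order
import Cfsg.Agent.Lib.Small.Order60
import Cfsg.Agent.Lib.Base.Cores

/-!
# Recognition of `A₄`, `A₅` and their double covers
-/

set_option autoImplicit false
set_option linter.unusedSectionVars false
set_option linter.style.haveILetI false

namespace CfsgLib.Recog.EqOrdConj

open Subgroup

/-- A group of order `12` with trivial odd core is `A₄`. -/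
theorem equiv_alt_four {G : Type*} [Group G] [Finite G] (hc : Nat.card G = 12)
    (hO : Cfsg.oddCore G = ⊥) : Nonempty (G ≃* alternatingGroup (Fin 4)) := by
  classical
  haveI : Fact (Nat.Prime 3) := ⟨Nat.prime_three⟩
  obtain ⟨x, hx⟩ := exists_prime_orderOf_dvd_card' (G := G) 3 (by rw [hc]; norm_num)
  have hidx : (zpowers x).index = 4 := by
    have h := card_mul_index (zpowers x)
    rw [Nat.card_zpowers, hx, hc] at h
    omega
  let e : G ⧸ zpowers x ≃ Fin 4 := Finite.equivFinOfCardEq (by rw [← index_eq_card, hidx])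
  let f : G →* Equiv.Perm (Fin 4) :=
    e.permCongrHom.toMonoidHom.comp (MulAction.toPermHom G (G ⧸ zpowers x))
  have hker : f.ker = ⊥ := by
    have h1 : f.ker ≤ zpowers x := by
      intro g hg
      have h2 : MulAction.toPermHom G (G ⧸ zpowers x) g = 1 :=
        e.permCongrHom.injective ((MonoidHom.mem_ker.1 hg).trans (map_one _).symm)
      have h3 : (MulAction.toPermHom G (G ⧸ zpowers x) g) ((1 : G) : G ⧸ zpowers x) =
          ((1 : G) : G ⧸ zpowers x) := by rw [h2]; rfl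
      change g • ((1 : G) : G ⧸ zpowers x) = _ at h3
      rw [MulAction.Quotient.smul_mk, smul_eq_mul, mul_one, eq_comm, QuotientGroup.eq, inv_one, one_mul] at h3
      exact h3
    have hodd : Odd (Nat.card f.ker) := by
      refine Odd.of_dvd_nat ?_ (card_dvd_of_le h1)
      rw [Nat.card_zpowers, hx]; decide
    have := CfsgLib.Base.le_oddCore (N := f.ker) hodd
    rwa [hO, le_bot_iff] at this
  have hf : Function.Injective f := (MonoidHom.ker_eq_bot_iff f).1 hker
  have hr : Nat.card f.range = 12 := by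
    rw [← hc]; exact (Nat.card_congr (MonoidHom.ofInjective hf).toEquiv).symm
  have h2 : f.range.index = 2 := by
    have h := card_mul_index f.range
    rw [hr, Nat.card_perm, Nat.card_fin, show Nat.factorial 4 = 24 from rfl] at h
    omega
  exact ⟨(MonoidHom.ofInjective hf).trans
    (MulEquiv.subgroupCongr (Equiv.Perm.eq_alternatingGroup_of_index_eq_two h2))⟩

/-- `PSL₂(4) ≅ A₅`. -/
theorem equiv_alt_five_psl {F : Type} [Field F] [Finite F] (hF : Nat.card F = 4) :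
    Nonempty (Matrix.ProjectiveSpecialLinearGroup (Fin 2) F ≃* alternatingGroup (Fin 5)) := by
  haveI := CfsgLib.Classical.isSimpleGroup_PSL_fin (F := F) 2 le_rfl fun _ => hF.ge
  exact CfsgLib.Small.equiv_alternating_five (by rw [CfsgLib.Classical.card_PSL_two, hF]; rfl)

/-- A double cover of `A₅` with one involution is `SL₂(5)`. -/
theorem equiv_SL_five {G : Type*} [Group G] [Finite G] (π : G →* alternatingGroup (Fin 5))
    (hπ : Function.Surjective π) (hk : Nat.card π.ker = 2)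
    (huniq : ∀ a b : G, orderOf a = 2 → orderOf b = 2 → a = b) :
    Nonempty (G ≃* Matrix.SpecialLinearGroup (Fin 2) (ZMod 5)) := by
  haveI : Fact (Nat.Prime 2) := ⟨Nat.prime_two⟩
  have h60 : Nat.card (alternatingGroup (Fin 5)) = 60 := by
    rw [nat_card_alternatingGroup, Nat.card_fin]; rfl
  have hG : Nat.card G = 120 := by
    rw [← π.ker.index_mul_card, index_ker, MonoidHom.range_eq_top.2 hπ, card_top, h60, hk]
  refine CfsgLib.Perm.Zass.mulEquiv_SL_five ?_ hG π hπ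
  obtain ⟨⟨z, hz⟩, hzo⟩ := exists_prime_orderOf_dvd_card' (G := π.ker) 2 (by rw [hk])
  rw [orderOf_mk] at hzo
  haveI hs : IsSimpleGroup (alternatingGroup (Fin 5)) := alternatingGroup.isSimpleGroup (by simp)
  have hA : _root_.commutator (alternatingGroup (Fin 5)) = ⊤ := by
    refine (hs.eq_bot_or_eq_top_of_normal _ inferInstance).resolve_left fun h => ?_
    have hc := commutator_mem_commutator (mem_top (⟨Equiv.swap 0 1 * Equiv.swap 1 2, Equiv.Perm.mem_alternatingGroup.2 (by decide)⟩ :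
      alternatingGroup (Fin 5))) (mem_top (⟨Equiv.swap 2 3 * Equiv.swap 3 4, Equiv.Perm.mem_alternatingGroup.2 (by decide)⟩ :
      alternatingGroup (Fin 5)))
    rw [← _root_.commutator_def, h, mem_bot, commutatorElement_def] at hc
    revert hc
    decide +kernel
  have hmap : (_root_.commutator G).map π = ⊤ := by
    rw [_root_.commutator_def, Subgroup.map_commutator, Subgroup.map_top_of_surjective _ hπ, ← _root_.commutator_def, hA]
  have hker : π.ker = zpowers z := (eq_of_le_of_card_ge (zpowers_le.2 hz)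
    (by rw [hk, Nat.card_zpowers, hzo])).symm
  by_cases hzc : z ∈ _root_.commutator G
  · rw [eq_top_iff, ← Subgroup.comap_top π, ← hmap, Subgroup.comap_map_eq, hker]
    exact sup_le le_rfl (zpowers_le.2 hzc)
  exfalso
  have h1 : 2 ∣ Nat.card (_root_.commutator G) := by
    have h2 := Subgroup.card_map_dvd (_root_.commutator G) π
    rw [hmap, card_top, h60] at h2
    exact (show 2 ∣ 60 by norm_num).trans h2
  obtain ⟨⟨a, ha⟩, hao⟩ := exists_prime_orderOf_dvd_card' 2 h1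
  rw [orderOf_mk] at hao
  exact hzc (huniq z a hzo hao ▸ ha)

theorem alt_four_facts : ∀ δ ι : alternatingGroup (Fin 4), δ ≠ 1 → δ ^ 3 = 1 → ι ≠ 1 → ι ^ 2 = 1 →
    (δ * ι * δ⁻¹) ≠ ι ∧ ι * (δ * ι * δ⁻¹) = (δ * ι * δ⁻¹) * ι ∧
    δ * (δ * ι * δ⁻¹) * δ⁻¹ = ι * (δ * ι * δ⁻¹) ∧
    ∀ g, ∃ a : Fin 2, ∃ b : Fin 2, ∃ c : Fin 3,
      g = ι ^ (a : ℕ) * (δ * ι * δ⁻¹) ^ (b : ℕ) * δ ^ (c : ℕ) := by
  decide +kernel

/-- A double cover of `A₄` with one involution is `SL₂(3)`. -/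
theorem equiv_SL_three {G : Type*} [Group G] [Finite G] (π : G →* alternatingGroup (Fin 4))
    (hπ : Function.Surjective π) (hk : Nat.card π.ker = 2)
    (huniq : ∀ a b : G, orderOf a = 2 → orderOf b = 2 → a = b) :
    Nonempty (G ≃* Matrix.SpecialLinearGroup (Fin 2) (ZMod 3)) := by
  haveI : Fact (Nat.Prime 2) := ⟨Nat.prime_two⟩
  haveI : Fact (Nat.Prime 3) := ⟨Nat.prime_three⟩
  have hG : Nat.card G = 24 := by
    rw [← π.ker.index_mul_card, index_ker, MonoidHom.range_eq_top.2 hπ, card_top, hk,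
      nat_card_alternatingGroup, Nat.card_fin]
    rfl
  obtain ⟨⟨z, hz⟩, hzo⟩ := exists_prime_orderOf_dvd_card' (G := π.ker) 2 (by rw [hk])
  rw [orderOf_mk] at hzo
  have hker : ∀ x : G, π x = 1 → x = 1 ∨ x = z := by
    intro x hx
    rcases eq_or_ne x 1 with rfl | hx1
    · exact Or.inl rfl
    refine Or.inr (huniq x z (orderOf_eq_prime ?_ hx1) hzo)
    have := pow_card_eq_one' (G := π.ker) (x := ⟨x, hx⟩)
    rw [hk] at this
    exact congrArg Subtype.val this
  have hz1 : π z = 1 := hz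
  have hzsq : z ^ 2 = 1 := by rw [← hzo, pow_orderOf_eq_one]
  have hzc : ∀ g : G, Commute g z := fun g =>
    mul_inv_eq_iff_eq_mul.1 (huniq (g * z * g⁻¹) z (((MulAut.conj g).orderOf_eq z).trans hzo) hzo)
  obtain ⟨d, hd⟩ := exists_prime_orderOf_dvd_card' (G := G) 3 (by rw [hG]; norm_num)
  have hd3 : d ^ 3 = 1 := by rw [← hd, pow_orderOf_eq_one]
  have hδ : π d ≠ 1 := fun e => by
    rcases hker d e with rfl | rfl
    · rw [orderOf_one] at hd; omega
    · omega
  obtain ⟨i₀, hi₀⟩ := hπ ⟨Equiv.swap 0 1 * Equiv.swap 2 3, Equiv.Perm.mem_alternatingGroup.2 (by decide)⟩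
  have hι : π i₀ ≠ 1 := by rw [hi₀]; decide
  have hι2 : π i₀ ^ 2 = 1 := by rw [hi₀]; decide
  obtain ⟨hne, hcm, hdd, hgen⟩ := alt_four_facts (π d) (π i₀) hδ (by rw [← map_pow, hd3, map_one]) hι hι2
  have hsq : i₀ ^ 2 = z := by
    refine ((hker _ (by rw [map_pow, hι2])).resolve_left fun e => ?_)
    have hio : orderOf i₀ = 2 := orderOf_eq_prime e fun e' => hι (by rw [e', map_one])
    exact hι (by rw [huniq i₀ z hio hzo, hz1])
  obtain ⟨j₀, hj₀⟩ : ∃ j, j = d * i₀ * d⁻¹ := ⟨_, rfl⟩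
  have hπj : π j₀ = π d * π i₀ * (π d)⁻¹ := by rw [hj₀, map_mul, map_mul, map_inv]
  have hjsq : j₀ ^ 2 = z := by
    rw [hj₀, conj_pow, hsq, (hzc d).eq, mul_inv_cancel_right]
  have hinv : j₀ * i₀ * j₀⁻¹ = i₀⁻¹ := by
    have h1 : π (j₀ * i₀ * j₀⁻¹ * i₀⁻¹) = 1 := by
      rw [map_mul, map_mul, map_mul, map_inv, map_inv, hπj, ← hcm, mul_inv_cancel_right, mul_inv_cancel]
    rcases hker _ h1 with e | e
    · exfalso
      have hc : Commute j₀ i₀ := mul_inv_eq_iff_eq_mul.1 (mul_inv_eq_one.1 e)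
      have h2 : (j₀ * i₀) ^ 2 = 1 := by rw [hc.mul_pow, hjsq, hsq, ← sq, hzsq]
      have h3 : π (j₀ * i₀) = 1 := by
        by_cases h4 : j₀ * i₀ = 1
        · rw [h4, map_one]
        · rw [huniq _ z (orderOf_eq_prime h2 h4) hzo, hz1]
      rw [map_mul, mul_eq_one_iff_eq_inv, ← map_inv, hπj] at h3
      refine hne (h3.trans ?_)
      rw [map_inv]
      exact inv_eq_of_mul_eq_one_right (by rw [← sq, hι2])
    · rw [mul_inv_eq_iff_eq_mul.1 e, ← hsq, sq, mul_assoc]
      refine eq_inv_of_mul_eq_one_left ?_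
      rw [show i₀ * (i₀ * i₀) * i₀ = (i₀ ^ 2) ^ 2 by rw [sq, sq]; group, hsq, hzsq]
  have h1 : π ((d * j₀ * d⁻¹) * (i₀ * j₀)⁻¹) = 1 := by
    rw [map_mul, map_mul, map_mul, map_inv, map_inv, map_mul, hπj, hdd, mul_inv_cancel]
  have mk : ∀ i j : G, π i = π i₀ → π j = π j₀ → i ^ 2 = z → j ^ 2 = z → j * i * j⁻¹ = i⁻¹ →
      d * i * d⁻¹ = j → d * j * d⁻¹ = i * j →
      Nonempty (G ≃* Matrix.SpecialLinearGroup (Fin 2) (ZMod 3)) := by
    intro i j hi hj hi2 hj2 hji hdi hdj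
    refine CfsgLib.Transfer.SLTwoThreeRel.mulEquiv_SL (i := i) (j := j) (d := d)
      ⟨by rw [show (4 : ℕ) = 2 * 2 from rfl, pow_mul, hi2, hzsq], hi2.trans hj2.symm, hji, hd3, hdi, hdj⟩
      ?_ hG.ge
    refine eq_top_iff.2 fun g _ => ?_
    set H := closure ({i, j, d} : Set G)
    have hiH : i ∈ H := subset_closure (by simp)
    have hjH : j ∈ H := subset_closure (by simp)
    have hdH : d ∈ H := subset_closure (by simp)
    have hzH : z ∈ H := hi2 ▸ pow_mem hiH 2
    obtain ⟨a, b, c, e⟩ := hgen (π g)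
    obtain ⟨w, hwdef⟩ : ∃ w, w = i ^ (a : ℕ) * j ^ (b : ℕ) * d ^ (c : ℕ) := ⟨_, rfl⟩
    have hw : w ∈ H := hwdef ▸ mul_mem (mul_mem (pow_mem hiH _) (pow_mem hjH _)) (pow_mem hdH _)
    have hπw : π (g * w⁻¹) = 1 := by
      rw [map_mul, map_inv, hwdef, map_mul, map_mul, map_pow, map_pow, map_pow, hi, hj, hπj, e,
        mul_inv_cancel]
    rw [show g = g * w⁻¹ * w by group]
    refine mul_mem ?_ hw
    rcases hker _ hπw with e' | e' <;> rw [e']
    · exact one_mem _
    · exact hzH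
  rcases hker _ h1 with e | e
  · exact mk i₀ j₀ rfl rfl hsq hjsq hinv hj₀.symm (mul_inv_eq_one.1 e)
  · refine mk (z * i₀) (z * j₀) (by rw [map_mul, hz1, one_mul]) (by rw [map_mul, hz1, one_mul]) ?_ ?_ ?_ ?_ ?_
    · rw [(hzc i₀).symm.mul_pow, hzsq, one_mul, hsq]
    · rw [(hzc j₀).symm.mul_pow, hzsq, one_mul, hjsq]
    · calc z * j₀ * (z * i₀) * (z * j₀)⁻¹ = z * (j₀ * z) * i₀ * j₀⁻¹ * z⁻¹ := by group
        _ = z * z * (j₀ * i₀ * j₀⁻¹) * z⁻¹ := by rw [(hzc j₀).eq]; group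
        _ = i₀⁻¹ * z⁻¹ := by rw [← sq, hzsq, one_mul, hinv]
        _ = (z * i₀)⁻¹ := by rw [mul_inv_rev]
    · rw [hj₀]
      calc d * (z * i₀) * d⁻¹ = (d * z) * i₀ * d⁻¹ := by group
        _ = z * (d * i₀ * d⁻¹) := by rw [(hzc d).eq]; group
    · calc d * (z * j₀) * d⁻¹ = (d * z) * j₀ * d⁻¹ := by group
        _ = z * (d * j₀ * d⁻¹) := by rw [(hzc d).eq]; group
        _ = z * (z * (i₀ * j₀)) := by rw [mul_inv_eq_iff_eq_mul.1 e]
        _ = i₀ * j₀ := by rw [← mul_assoc, ← sq, hzsq, one_mul]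
        _ = (i₀ * z) * (z * j₀) := by rw [← mul_assoc (i₀ * z), mul_assoc i₀ z, ← sq, hzsq, mul_one]
        _ = z * i₀ * (z * j₀) := by rw [(hzc i₀).eq]

end CfsgLib.Recog.EqOrdConj
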