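import Cfsg.Agent.Lib.Recog.EqOrdConj.Quot
import Cfsg.Agent.Lib.Recog.EqOrdConj.Free
import Cfsg.Agent.Lib.Involutions.ElemAbCentPSL
import Cfsg.Agent.Lib.CharsMore.AbCent.Central
import Cfsg.Agent.Lib.CycInt.Main
import Cfsg.Agent.Lib.Base.Cores
import Cfsg.Agent.Lib.FT.OddOrderTheorem

/-!
# The elements of odd order of `C(T)` lie in `O(G)`

Induction on the order of `G`. If `O(G) = 1` and the centraliser `M` of some element of odd order
of `C(T)` is not in `N(T)`, the subgroup `X` of `C(T)` centralising the involutions of `M` has an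
abelian Sylow subgroup `R` of `G` outside its commutator subgroup, the automiser of `R` is induced
by `X`, so by the focal subgroup theorem `G` has a proper normal subgroup containing `T`. Then
`C(T)` is abelian and central by the theorem on abelian centralisers of involutions.
-/

set_option autoImplicit false
set_option linter.unusedSectionVars false
set_option linter.style.haveILetI false

universe v

open Subgroup MulAction

namespace CfsgLib.Involutions.ElemAbCent

variable {G : Type*} [Group G] [Finite G] {T : Sylow 2 G} (h : ElemAbCent T)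
include h

/-- Every element of odd order is inverted by an involution. -/
theorem exists_inverter_of_odd {g : G} (hg : Odd (orderOf g)) :
    g = 1 ∨ ∃ u : G, orderOf u = 2 ∧ u * g * u⁻¹ = g⁻¹ := by
  by_cases hall : ∀ x : G ⧸ normalizer ((T : Subgroup G) : Set G), g • x = x
  · left
    have h1 := h.card_points
    have h2 := h.four_le_card
    set x₀ := (QuotientGroup.mk (1 : G) : G ⧸ normalizer ((T : Subgroup G) : Set G))
    haveI : Nontrivial (G ⧸ normalizer ((T : Subgroup G) : Set G)) :=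
      Finite.one_lt_card_iff_nontrivial.1 (by omega)
    obtain ⟨y, hy⟩ := exists_ne x₀
    obtain ⟨z, hz0, hzy⟩ : ∃ z, z ≠ x₀ ∧ z ≠ y := by
      by_contra hno
      push Not at hno
      have hs : Function.Surjective (fun b : Fin 2 => if b = 0 then x₀ else y) := fun z => by
        rcases eq_or_ne z x₀ with rfl | hz
        · exact ⟨0, rfl⟩
        · exact ⟨1, by simp [hno z hz]⟩
      have := Nat.card_le_card_of_surjective _ hs
      rw [Nat.card_fin] at this
      omega
    exact h.eq_one_of_three_fixed hy hz0 hzy (mem_pair.2 ⟨hall _, hall _⟩) (hall _)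
  right
  push Not at hall
  obtain ⟨x, hx⟩ := hall
  obtain ⟨k, rfl⟩ := QuotientGroup.mk_surjective x
  obtain ⟨f, hfdef⟩ : ∃ f, f = k⁻¹ * g * k := ⟨_, rfl⟩
  have hfo : Odd (orderOf f) := by
    have := orderOf_conj_eq k⁻¹ g
    rw [inv_inv] at this
    rwa [hfdef, this]
  suffices hf : ∃ u : G, orderOf u = 2 ∧ u * f * u⁻¹ = f⁻¹ by
    obtain ⟨u, hu, hui⟩ := hf
    refine ⟨k * u * k⁻¹, conj_invol k hu, ?_⟩
    calc k * u * k⁻¹ * g * (k * u * k⁻¹)⁻¹ = k * (u * (k⁻¹ * g * k) * u⁻¹) * k⁻¹ := by group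
      _ = g⁻¹ := by rw [← hfdef, hui, hfdef]; group
  set x₀ := (QuotientGroup.mk (1 : G) : G ⧸ normalizer ((T : Subgroup G) : Set G))
  have hk : k • x₀ = (k : G ⧸ normalizer ((T : Subgroup G) : Set G)) := by
    rw [MulAction.Quotient.smul_mk, smul_eq_mul, mul_one]
  have hfx : f • x₀ ≠ x₀ := fun e => hx (by
    rw [← hk]
    calc g • k • x₀ = k • f • x₀ := by simp only [← mul_smul, hfdef]; congr 1; group
      _ = k • x₀ := by rw [e])
  have hz₁ : f⁻¹ • x₀ ≠ x₀ := fun e => hfx (inv_smul_eq_iff.1 e).symm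
  obtain ⟨t, htT, ht⟩ := h.transitive hz₁ hfx
  have ht1 : t ≠ 1 := fun e => by
    rw [e, one_smul, inv_smul_eq_iff, ← mul_smul] at ht
    obtain ⟨m, hm⟩ := hfo
    refine hfx ?_
    have h1 : ∀ j : ℕ, (f * f) ^ j • x₀ = x₀ := fun j => by
      induction j with
      | zero => simp
      | succ j ih => rw [pow_succ, mul_smul, ← ht, ih]
    calc f • x₀ = f ^ (2 * m + 1) • ((f * f) ^ m)⁻¹ • x₀ := by
          rw [← mul_smul, pow_succ', ← pow_two, ← pow_mul, mul_assoc, mul_inv_cancel, mul_one]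
      _ = x₀ := by rw [← hm, pow_orderOf_eq_one, one_smul, inv_smul_eq_iff, h1]
  have hto := h.orderOf_of_mem htT ht1
  have htx : t • x₀ = x₀ := mem_iff_fixes.1 (le_normalizer htT)
  let φ : {i : G // orderOf i = 2 ∧ i • x₀ = f • x₀} → pair T (f⁻¹ • x₀) := fun i =>
    ⟨t⁻¹ * i * f, mem_pair.2 ⟨by
      have hi2 : (i : G) • f • x₀ = x₀ :=
        (congrArg ((i : G) • ·) i.2.2).symm.trans (by simp only [← mul_smul, invol_mul_self i.2.1, one_smul])
      rw [mul_smul, mul_smul, hi2]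
      exact inv_smul_eq_iff.2 htx.symm, by
      rw [mul_smul, mul_smul, smul_inv_smul, i.2.2]
      exact inv_smul_eq_iff.2 ht.symm⟩⟩
  have hφ : Function.Injective φ := fun a b e =>
    Subtype.ext (mul_left_cancel (mul_right_cancel (congrArg Subtype.val e :)))
  have hcard : Nat.card (pair T (f⁻¹ • x₀)) ≤ Nat.card {i : G // orderOf i = 2 ∧ i • x₀ = f • x₀} := by
    have h1 := h.card_pair hz₁
    have h2 := h.card_invol_normalizer
    obtain ⟨z, hzT, hzo, -⟩ := h.exists_central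
    have hc := SE.card_carry h.stronglyEmbedded hzo (x := x₀) (y := f • x₀) hfx.symm
      (mem_iff_fixes.1 (le_normalizer hzT))
    rw [SE.card_fixing] at hc
    omega
  obtain ⟨⟨i, hi, hix⟩, hie⟩ := (hφ.bijective_of_nat_card_le hcard).2 ⟨1, one_mem _⟩
  have hie' : t⁻¹ * i * f = 1 := congrArg Subtype.val hie
  refine ⟨i, hi, ?_⟩
  have hf : f = i * t := by
    have h1 : f = (t⁻¹ * i)⁻¹ := eq_inv_of_mul_eq_one_right hie'
    rw [h1, mul_inv_rev, inv_inv, invol_inv hi]
  rw [hf, mul_inv_rev, invol_inv hi, invol_inv hto, ← mul_assoc, invol_mul_self hi, one_mul]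

end CfsgLib.Involutions.ElemAbCent

namespace CfsgLib.Recog.EqOrdConj

open CfsgLib.Involutions
open scoped commutatorElement

variable {G : Type v} [Group G] [Finite G]

/-- The inductive hypothesis. -/
def OddInCore (n : ℕ) : Prop :=
  ∀ (G : Type v) [Group G] [Finite G] (T : Sylow 2 G), Hyp T → Nat.card G < n →
    ∀ a ∈ centralizer ((T : Subgroup G) : Set G), Odd (orderOf a) → a ∈ Cfsg.oddCore G

/-- A `2`-part and an odd part inside the same subgroup. -/
theorem exists_two_odd {K : Subgroup G} {c : G} (hc : c ∈ K) : ∃ s a : G,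
    c = s * a ∧ s ∈ K ∧ a ∈ K ∧ (∃ k, orderOf s = 2 ^ k) ∧ Odd (orderOf a) ∧ Commute s a := by
  obtain ⟨k, m, hm, he⟩ := Nat.exists_eq_two_pow_mul_odd (orderOf_pos c).ne'
  have hcop : (2 ^ k).Coprime m := Nat.Coprime.pow_left _ (Nat.coprime_two_left.2 hm)
  have hb : ((2 ^ k : ℕ) : ℤ) * Nat.gcdA (2 ^ k) m + (m : ℤ) * Nat.gcdB (2 ^ k) m = 1 := by
    rw [← Nat.gcd_eq_gcd_ab, hcop.gcd_eq_one, Nat.cast_one]
  refine ⟨c ^ ((m : ℤ) * Nat.gcdB (2 ^ k) m), c ^ (((2 ^ k : ℕ) : ℤ) * Nat.gcdA (2 ^ k) m), ?_,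
    zpow_mem hc _, zpow_mem hc _, ?_, ?_, Commute.zpow_zpow_self c _ _⟩
  · rw [← zpow_add, add_comm, hb, zpow_one]
  · refine (Nat.dvd_prime_pow Nat.prime_two).1 (orderOf_dvd_of_pow_eq_one (n := 2 ^ k) ?_)
      |>.imp fun j hj => hj.2
    rw [← zpow_natCast, ← zpow_mul,
      show (m : ℤ) * Nat.gcdB (2 ^ k) m * ((2 ^ k : ℕ) : ℤ) = (orderOf c : ℤ) * Nat.gcdB (2 ^ k) m by
        rw [he]; push_cast; ring,
      zpow_mul, zpow_natCast, pow_orderOf_eq_one, one_zpow]
  · refine hm.of_dvd_nat (orderOf_dvd_of_pow_eq_one ?_)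
    rw [← zpow_natCast, ← zpow_mul,
      show ((2 ^ k : ℕ) : ℤ) * Nat.gcdA (2 ^ k) m * (m : ℤ) = (orderOf c : ℤ) * Nat.gcdA (2 ^ k) m by
        rw [he]; push_cast; ring,
      zpow_mul, zpow_natCast, pow_orderOf_eq_one, one_zpow]

namespace Hyp

variable {T : Sylow 2 G} (h : Hyp T)
include h

local notation "𝐇" => normalizer ((T : Subgroup G) : Set G)
local notation "𝐂" => centralizer ((T : Subgroup G) : Set G)

/-- With trivial odd parts, the centralisers of involutions are elementary abelian. -/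
theorem elemAbCent (hodd : ∀ a ∈ 𝐂, Odd (orderOf a) → a = 1) : ElemAbCent T where
  nc hc := by
    haveI := hc
    obtain ⟨⟨g, hg⟩, hgen⟩ := IsCyclic.exists_ofOrder_eq_natCard (α := (T : Subgroup G))
    rw [orderOf_mk] at hgen
    have h1 := orderOf_dvd_of_pow_eq_one (show g ^ 2 = 1 by rw [pow_two, h.elem g hg])
    rw [hgen] at h1
    have := Nat.le_of_dvd two_pos h1
    have := h.four
    omega
  nn := h.nn
  hC t ht := by
    have hCT : ∀ c ∈ 𝐂, c ∈ T := fun c hc => by
      obtain ⟨s, a, rfl, hs, ha, hso, hao, -⟩ := exists_two_odd hc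
      rw [hodd a ha hao, mul_one]
      exact h.two_elt_mem hso (h.C_le_H hs)
    obtain ⟨g, hg⟩ := h.exists_conj_mem ht
    have key : ∀ c ∈ centralizer ({t} : Set G), g * c * g⁻¹ ∈ T := fun c hc =>
      hCT _ (h.mem_C_of_commute (conj_invol g ht) hg
        ((mem_centralizer_singleton.1 hc : Commute t c).map (MulAut.conj g)))
    refine ⟨⟨⟨fun a b => Subtype.ext ?_⟩⟩, fun c hc => ?_⟩
    · exact (MulAut.conj g).injective (by
        rw [Subgroup.coe_mul, Subgroup.coe_mul, map_mul, map_mul]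
        exact (h.comm_of_mem (key a a.2) (key b b.2)).eq)
    · have h1 : g * c ^ 2 * g⁻¹ = 1 := by rw [← conj_pow, pow_two, h.elem _ (key c hc)]
      exact conj_eq_one_iff.1 h1

/-- The induction hypothesis in a proper subgroup: odd elements centralising `T` centralise all
involutions of the subgroup. -/
theorem commute_invols (ih : OddInCore.{v} (Nat.card G)) {M : Subgroup G}
    (hle : (T : Subgroup G) ≤ M) (hM : ¬ M ≤ 𝐇) (hMtop : M ≠ ⊤) {a : G} (haM : a ∈ M)
    (ha : a ∈ 𝐂) (hao : Odd (orderOf a)) {u : G} (huM : u ∈ M) (hu : orderOf u = 2) :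
    Commute u a := by
  have hlt : Nat.card M < Nat.card G := by
    refine lt_of_le_of_ne (Subgroup.card_le_card_group M) fun e => hMtop ?_
    exact Subgroup.eq_top_of_card_eq M e
  have hs := h.subgroup hle hM
  have h1 := ih M _ hs hlt ⟨a, haM⟩ (mem_centralizer_iff.2 fun x hx => Subtype.ext (by
    rw [SetLike.mem_coe, Sylow.coe_subtype, mem_subgroupOf] at hx
    exact mem_centralizer_iff.1 ha _ hx)) (by rwa [orderOf_mk])
  haveI : (Cfsg.oddCore M).Normal := Cfsg.pPrimeCore_normal 2 M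
  exact (hs.commute_normal (CfsgLib.Base.odd_card_oddCore M) (u := (⟨u, huM⟩ : M))
    (by rw [orderOf_mk, hu]) h1).map M.subtype

/-- Step: an `r`-subgroup commuting with an element of order `r` of `C` centralises the
involutions of the centraliser of that element. -/
theorem commute_of_bad (ih : OddInCore.{v} (Nat.card G)) (hO : Cfsg.oddCore G = ⊥) {r : ℕ}
    [hr : Fact r.Prime] (hr2 : r ≠ 2) {x : G} (hx : x ∈ 𝐂) (hxo : orderOf x = r)
    (hbad : ¬ centralizer ({x} : Set G) ≤ 𝐇) {y : G} (hy : ∃ k, orderOf y = r ^ k)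
    (hxy : Commute x y) {u : G} (hu : orderOf u = 2) (hux : Commute x u) : Commute u y := by
  set M := centralizer ({x} : Set G) with hM
  have hMtop : M ≠ ⊤ := fun e => by
    have hxZ : x ∈ center G := mem_center_iff.2 fun g => by
      have hg : g ∈ M := e ▸ mem_top g
      exact (mem_centralizer_singleton.1 hg).symm
    haveI : (zpowers x).Normal := ⟨fun n hn g => by
      obtain ⟨j, rfl⟩ := mem_zpowers_iff.1 hn
      rw [mem_center_iff.1 (zpow_mem hxZ j) g, mul_inv_cancel_right]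
      exact zpow_mem_zpowers x j⟩
    have h1 : zpowers x ≤ Cfsg.oddCore G := CfsgLib.Base.le_oddCore
      (by rw [Nat.card_zpowers, hxo]; exact hr.out.odd_of_ne_two hr2)
    rw [hO, le_bot_iff, zpowers_eq_bot] at h1
    rw [h1, orderOf_one] at hxo
    exact hr.out.ne_one hxo.symm
  have hTM : (T : Subgroup G) ≤ M := fun a ha =>
    mem_centralizer_singleton.2 (mem_centralizer_iff.1 hx a ha).symm
  have hlt : Nat.card M < Nat.card G := lt_of_le_of_ne (Subgroup.card_le_card_group M)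
    fun e => hMtop (Subgroup.eq_top_of_card_eq M e)
  have hs := h.subgroup hTM hbad
  haveI : (Cfsg.oddCore M).Normal := Cfsg.pPrimeCore_normal 2 M
  have hOo := CfsgLib.Base.odd_card_oddCore M
  have hq := hs.quot _ hOo
  have hQ : ElemAbCent (G := M ⧸ Cfsg.oddCore M) _ := hq.elemAbCent fun a ha hao => by
    have h1 := ih (M ⧸ Cfsg.oddCore M) _ hq
      ((Subgroup.card_quotient_dvd_card _ |> Nat.le_of_dvd Nat.card_pos).trans_lt hlt) a ha hao
    rwa [CfsgLib.CycInt.oddCore_quotient, mem_bot] at h1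
  -- the image of `y` is trivial
  have hyM : y ∈ M := mem_centralizer_singleton.2 hxy.eq
  have hy' : (⟨y, hyM⟩ : M) ∈ Cfsg.oddCore M := by
    rw [← QuotientGroup.eq_one_iff]
    by_contra hne
    set w := QuotientGroup.mk' (Cfsg.oddCore M) ⟨y, hyM⟩ with hw
    have hne' : w ≠ 1 := hne
    obtain ⟨k, hk⟩ := hy
    obtain ⟨j, -, hj⟩ := (Nat.dvd_prime_pow hr.out).1
      (show orderOf w ∣ r ^ k from hk ▸ (orderOf_map_dvd _ _).trans (by rw [orderOf_mk]))
    have hwo : Odd (orderOf w) := hj ▸ (hr.out.odd_of_ne_two hr2).pow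
    obtain ⟨v, hv, hvw⟩ := (hQ.exists_inverter_of_odd hwo).resolve_left hne'
    obtain ⟨u', hu', rfl⟩ := exists_invol_lift _ hOo hv
    have hrd : r ∣ orderOf w := by
      rcases j with _ | j
      · exact absurd (orderOf_eq_one_iff.1 (hj.trans (pow_zero r))) hne'
      · exact hj ▸ dvd_pow_self r j.succ_ne_zero
    obtain ⟨t, htT, ht⟩ := h.exists_invol
    refine hs.not_inverted_quot hr.out hr2 (t := ⟨t, hTM htT⟩) (c := ⟨x, mem_centralizer_singleton.2 rfl⟩)
      (by rw [orderOf_mk, ht]) (by rw [orderOf_mk, hxo]) (Subtype.ext (mem_centralizer_iff.1 hx t htT))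
      hu' (orderOf_pow_orderOf_div (orderOf_pos w).ne' hrd) ?_
    rw [← conj_pow, hvw, inv_pow]
  exact (hs.commute_normal hOo (u := (⟨u, mem_centralizer_singleton.2 hux.eq⟩ : M))
    (by rw [orderOf_mk, hu]) hy').map M.subtype

/-- If `G` has a proper normal subgroup containing `T` and `O(G) = 1`, then `C = T`. -/
theorem eq_one_of_normal (ih : OddInCore.{v} (Nat.card G)) (hO : Cfsg.oddCore G = ⊥)
    {A : Type*} [CommGroup A] (φ : G →* A) (hTk : (T : Subgroup G) ≤ φ.ker) (hk : φ.ker ≠ ⊤)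
    {a : G} (ha : a ∈ 𝐂) (hao : Odd (orderOf a)) : a = 1 := by
  obtain ⟨u, huH, hu⟩ := SE.exists_invol_not_mem h.stronglyEmbedded
  have hk' : ¬ φ.ker ≤ 𝐇 := fun hle => huH (hle (by
    obtain ⟨g, hg⟩ := h.exists_conj_mem hu
    have h1 := φ.normal_ker.conj_mem _ (hTk hg) g⁻¹
    rwa [inv_inv, show g⁻¹ * (g * u * g⁻¹) * g = u by group] at h1))
  have hlt : Nat.card φ.ker < Nat.card G := lt_of_le_of_ne (Subgroup.card_le_card_group _)
    fun e => hk (Subgroup.eq_top_of_card_eq _ e)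
  have hs := h.subgroup hTk hk'
  have hbot : ∀ b ∈ φ.ker, b ∈ 𝐂 → Odd (orderOf b) → b = 1 := by
    intro b hb hbC hbo
    have h1 := ih φ.ker _ hs hlt ⟨b, hb⟩ (mem_centralizer_iff.2 fun x hx => Subtype.ext (by
      rw [SetLike.mem_coe, Sylow.coe_subtype, mem_subgroupOf] at hx
      exact mem_centralizer_iff.1 hbC _ hx)) (by rwa [orderOf_mk])
    have h2 : (Cfsg.oddCore φ.ker).map φ.ker.subtype ≤ Cfsg.oddCore G :=
      (CfsgLib.Base.map_pPrimeCore_eq_inf (p := 2) φ.ker).le.trans inf_le_left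
    rw [hO] at h2
    exact (mem_bot).1 (h2 (mem_map_of_mem _ h1))
  -- `C` is commutative
  have hcomm : ∀ b c : G, b ∈ 𝐂 → c ∈ 𝐂 → Odd (orderOf c) → Commute b c := by
    intro b c hb hc hco
    obtain ⟨z, hz⟩ : ∃ z, z = b * c * b⁻¹ * c⁻¹ := ⟨_, rfl⟩
    have hzk : z ∈ φ.ker := by
      rw [MonoidHom.mem_ker, hz, map_mul, map_mul, map_mul, map_inv, map_inv, mul_right_comm (φ b),
        mul_inv_cancel, one_mul, mul_inv_cancel]
    have hzC : z ∈ 𝐂 := hz ▸ mul_mem (mul_mem (mul_mem hb hc) (inv_mem hb)) (inv_mem hc)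
    obtain ⟨s, e, hse, hsk, hek, hso, heo, -⟩ := exists_two_odd (K := φ.ker ⊓ 𝐂) ⟨hzk, hzC⟩
    rw [hbot e hek.1 hek.2 heo, mul_one] at hse
    subst hse
    have hzT := h.two_elt_mem hso (h.C_le_H hsk.2)
    have hbc : b * c * b⁻¹ = z * c := by rw [hz, inv_mul_cancel_right]
    have hcz : Commute z c := mem_centralizer_iff.1 hc z hzT
    have h1 : (z * c) ^ orderOf c = 1 := by
      rw [← hbc, conj_pow, pow_orderOf_eq_one, mul_one, mul_inv_cancel]
    rw [hcz.mul_pow, pow_orderOf_eq_one, mul_one] at h1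
    obtain ⟨m, hm⟩ := hco
    rw [hm, pow_succ, pow_mul, pow_two, h.elem z hzT, one_pow, one_mul] at h1
    rw [h1, one_mul] at hbc
    exact mul_inv_eq_iff_eq_mul.1 hbc
  have hsetup : CharsMore.AbCent.Setup T := by
    refine ⟨fun hc => ?_, h.nn, fun t ht => ?_⟩
    · haveI := hc
      obtain ⟨⟨g, hg⟩, hgen⟩ := IsCyclic.exists_ofOrder_eq_natCard (α := (T : Subgroup G))
      rw [orderOf_mk] at hgen
      have h1 := orderOf_dvd_of_pow_eq_one (show g ^ 2 = 1 by rw [pow_two, h.elem g hg])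
      rw [hgen] at h1
      have := Nat.le_of_dvd two_pos h1
      have := h.four
      omega
    · obtain ⟨g, hg⟩ := h.exists_conj_mem ht
      refine ⟨⟨fun b c => Subtype.ext ?_⟩⟩
      have key : ∀ x : centralizer ({t} : Set G), g * (x : G) * g⁻¹ ∈ 𝐂 := fun x =>
        h.mem_C_of_commute (conj_invol g ht) hg
          ((mem_centralizer_singleton.1 x.2 : Commute t x).map (MulAut.conj g))
      obtain ⟨s, e, hse, hs, he, hso, heo, -⟩ := exists_two_odd (key c)
      have hsT := h.two_elt_mem hso (h.C_le_H hs)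
      have h1 : Commute (g * (b : G) * g⁻¹) (g * (c : G) * g⁻¹) := by
        rw [hse]
        exact Commute.mul_right (show Commute (g * (b : G) * g⁻¹) s from
          (mem_centralizer_iff.1 (key b) s hsT).symm) (hcomm _ _ (key b) he heo)
      exact (MulAut.conj g).injective (by rw [Subgroup.coe_mul, Subgroup.coe_mul, map_mul, map_mul]; exact h1.eq)
  have haZ := hsetup.odd_mem_center ha hao
  haveI : (zpowers a).Normal := ⟨fun n hn g => by
    obtain ⟨j, rfl⟩ := mem_zpowers_iff.1 hn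
    rw [mem_center_iff.1 (zpow_mem haZ j) g, mul_inv_cancel_right]
    exact zpow_mem_zpowers a j⟩
  have h1 : zpowers a ≤ Cfsg.oddCore G := CfsgLib.Base.le_oddCore (by rwa [Nat.card_zpowers])
  rwa [hO, le_bot_iff, zpowers_eq_bot] at h1

/-- A centraliser of an element of prime order outside `N(T)` gives the normal subgroup. -/
theorem exists_hom (ih : OddInCore.{v} (Nat.card G)) (hO : Cfsg.oddCore G = ⊥) {x : G}
    (hx : x ∈ 𝐂) (hxp : (orderOf x).Prime)
    (hbad : ¬ centralizer ({x} : Set G) ≤ 𝐇) :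
    ∃ φ : G →* Abelianization G, (T : Subgroup G) ≤ φ.ker ∧ φ.ker ≠ ⊤ := by
  classical
  haveI := Fact.mk hxp
  set M := centralizer ({x} : Set G) with hMdef
  have hTM : (T : Subgroup G) ≤ M := fun a ha =>
    mem_centralizer_singleton.2 (mem_centralizer_iff.1 hx a ha).symm
  obtain ⟨u, huH, hu⟩ := SE.exists_invol_not_mem (h.subgroup hTM hbad).stronglyEmbedded
  have huo : orderOf (u : G) = 2 := by rw [orderOf_coe, hu]
  have huH' : (u : G) ∉ 𝐇 := fun hmem => huH (le_normalizer (by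
    rw [Sylow.coe_subtype, mem_subgroupOf]
    exact h.invol_mem huo hmem))
  set X : Subgroup G := centralizer {v : G | v ∈ M ∧ orderOf v = 2} with hX
  have hXC : X ≤ 𝐂 := fun y hy => by
    obtain ⟨t, htT, ht⟩ := h.exists_invol
    exact h.mem_C_of_commute ht htT (mem_centralizer_iff.1 hy t ⟨hTM htT, ht⟩)
  have hxX : x ∈ X := mem_centralizer_iff.2 fun v hv => (mem_centralizer_singleton.1 hv.1).symm
  have hXodd : Odd (Nat.card X) := by
    rw [odd_card_iff]
    intro s hs hso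
    exact huH' (h.C_le_H (h.mem_C_of_commute hso (h.invol_mem hso (h.C_le_H (hXC hs)))
      (mem_centralizer_iff.1 hs u ⟨u.2, huo⟩ : Commute (u : G) s).symm))
  -- an element of prime power order outside the commutator subgroup of `X`
  haveI : Group.IsSolvable X := CfsgLib.FT.isSolvable_of_odd hXodd
  haveI : Nontrivial X := ⟨⟨⟨x, hxX⟩, 1, fun e => hxp.ne_one (by
    rw [show x = 1 from congrArg Subtype.val e, orderOf_one])⟩⟩
  obtain ⟨y₀, -, hy₀⟩ :=
    SetLike.exists_of_lt (Group.IsSolvable.commutator_lt_top_of_nontrivial (G := X))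
  obtain ⟨r, hr, hrd⟩ := Nat.exists_prime_and_dvd
    (show orderOf (Abelianization.of y₀) ≠ 1 from fun e =>
      hy₀ ((QuotientGroup.eq_one_iff y₀).1 (orderOf_eq_one_iff.1 e)))
  haveI := Fact.mk hr
  have hr2 : r ≠ 2 := by
    rintro rfl
    exact absurd (hXodd.of_dvd_nat ((hrd.trans (orderOf_map_dvd _ _)).trans (orderOf_dvd_natCard _)))
      (by decide)
  obtain ⟨m, hm⟩ : ∃ m, m = ordCompl[r] (orderOf y₀) := ⟨_, rfl⟩
  obtain ⟨y, hydef⟩ : ∃ y, y = y₀ ^ m := ⟨_, rfl⟩
  have hyc : y ∉ _root_.commutator X := fun hmem => by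
    have h1 : Abelianization.of y = 1 := (QuotientGroup.eq_one_iff y).2 hmem
    rw [hydef, map_pow] at h1
    exact Nat.not_dvd_ordCompl hr (orderOf_pos y₀).ne'
      (hm ▸ hrd.trans (orderOf_dvd_of_pow_eq_one h1))
  have hyr : ∃ k, orderOf (y : G) = r ^ k := by
    refine ((Nat.dvd_prime_pow hr).1 (orderOf_dvd_of_pow_eq_one (n := ordProj[r] (orderOf y₀)) ?_))
      |>.imp fun j hj => hj.2
    rw [hydef, SubgroupClass.coe_pow, ← pow_mul, hm, mul_comm,
      Nat.ordProj_mul_ordCompl_eq_self, ← SubgroupClass.coe_pow, pow_orderOf_eq_one, coe_one]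
  have hy1 : (y : G) ≠ 1 := fun e => hyc (by rw [show y = 1 from Subtype.ext e]; exact one_mem _)
  obtain ⟨k, hk⟩ := hyr
  obtain ⟨R, hR⟩ := (IsPGroup.of_card (p := r) (n := k)
    (show Nat.card (zpowers (y : G)) = r ^ k by rw [Nat.card_zpowers, hk])).exists_le_sylow
  have hyR : (y : G) ∈ (R : Subgroup G) := hR (mem_zpowers _)
  haveI hRab : IsMulCommutative (R : Subgroup G) := h.abelian r hr hr2 _ R.isPGroup'
  have hRc : ∀ {a b : G}, a ∈ (R : Subgroup G) → b ∈ (R : Subgroup G) → Commute a b :=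
    fun {a b} ha hb => congrArg Subtype.val (hRab.is_comm.comm ⟨a, ha⟩ ⟨b, hb⟩)
  -- `R ≤ X`
  have hrd' : r ∣ orderOf (y : G) := by
    rcases k with _ | k
    · exact absurd (orderOf_eq_one_iff.1 (hk.trans (pow_zero r))) hy1
    · exact hk ▸ dvd_pow_self r k.succ_ne_zero
  obtain ⟨x', hx'⟩ : ∃ x', x' = (y : G) ^ (orderOf (y : G) / r) := ⟨_, rfl⟩
  have hx'X : x' ∈ X := hx' ▸ pow_mem y.2 _
  have hx'o : orderOf x' = r := hx' ▸ orderOf_pow_orderOf_div (orderOf_pos _).ne' hrd'
  have hbad' : ¬ centralizer ({x'} : Set G) ≤ 𝐇 := fun hle => huH' (hle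
    (mem_centralizer_singleton.2 (mem_centralizer_iff.1 hx'X _ ⟨u.2, huo⟩).symm))
  have hRX : (R : Subgroup G) ≤ X := fun w hw => mem_centralizer_iff.2 fun v hv => by
    refine (h.commute_of_bad ih hO hr2 (hXC hx'X) hx'o hbad'
      (by obtain ⟨j, hj⟩ := IsPGroup.iff_orderOf.1 R.isPGroup' ⟨w, hw⟩; exact ⟨j, by rwa [orderOf_mk] at hj⟩)
      (hRc (hx' ▸ pow_mem hyR _) hw) hv.2 ?_).eq
    exact (mem_centralizer_iff.1 hx'X v hv : Commute v x').symm
  -- the automiser of `R` is induced by `X`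
  set N := normalizer ((R : Subgroup G) : Set G) with hNdef
  have hinv : ∀ v ∈ M, orderOf v = 2 → v ∈ centralizer ((R : Subgroup G) : Set G) := fun v hv hv2 =>
    mem_centralizer_iff.2 fun w hw => (mem_centralizer_iff.1 (hRX hw) v ⟨hv, hv2⟩).symm
  have hTCR : (T : Subgroup G) ≤ centralizer ((R : Subgroup G) : Set G) := fun a ha => by
    rcases eq_or_ne a 1 with rfl | ha1
    · exact one_mem _
    · exact hinv a (hTM ha) (h.orderOf_eq ha ha1)
  have hCN : centralizer ((R : Subgroup G) : Set G) ≤ N := centralizer_le_normalizer _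
  have hCH : ¬ centralizer ((R : Subgroup G) : Set G) ≤ 𝐇 := fun hle => huH' (hle (hinv _ u.2 huo))
  have hNtop : N ≠ ⊤ := fun e => by
    haveI : (R : Subgroup G).Normal := normalizer_eq_top_iff.1 e
    have h1 : (R : Subgroup G) ≤ Cfsg.oddCore G := CfsgLib.Base.le_oddCore (by
      obtain ⟨j, hj⟩ := IsPGroup.iff_card.1 R.isPGroup'
      rw [hj]; exact (hr.odd_of_ne_two hr2).pow)
    rw [hO] at h1
    exact hy1 (mem_bot.1 (h1 hyR))
  have haut : ∀ g ∈ N, ∃ a ∈ X, ∀ w ∈ (R : Subgroup G), g * w * g⁻¹ = a * w * a⁻¹ := by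
    intro g hg
    obtain ⟨t, htT, ht⟩ := h.exists_invol
    have hgt : g * t * g⁻¹ ∈ centralizer ((R : Subgroup G) : Set G) := by
      refine mem_centralizer_iff.2 fun w hw => ?_
      have h1 := mem_centralizer_iff.1 (hTCR htT) (g⁻¹ * w * g) (by
        have e := (mem_normalizer_iff.1 (inv_mem hg) w).1 hw
        rwa [inv_inv] at e)
      calc w * (g * t * g⁻¹) = g * (g⁻¹ * w * g * t) * g⁻¹ := by group
        _ = g * t * g⁻¹ * w := by rw [h1]; group
    obtain ⟨⟨l, hl⟩, hlc⟩ := isConj_iff.1 (SE.isConj (h.subgroup hTCR hCH).stronglyEmbedded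
      (a := (⟨g * t * g⁻¹, hgt⟩ : centralizer ((R : Subgroup G) : Set G))) (b := ⟨t, hTCR htT⟩)
      (by rw [orderOf_mk]; exact conj_invol g ht) (by rw [orderOf_mk]; exact ht))
    have hlc' : l * (g * t * g⁻¹) * l⁻¹ = t := congrArg Subtype.val hlc
    have hlg : l * g ∈ 𝐂 := h.mem_C_of_commute ht htT (by
      show t * (l * g) = l * g * t
      calc t * (l * g) = l * (g * t * g⁻¹) * l⁻¹ * (l * g) := by rw [hlc']
        _ = l * g * t := by group)
    obtain ⟨s, a, hsa, hs, ha, hso, hao, -⟩ :=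
      exists_two_odd (K := 𝐂 ⊓ N) (c := l * g) ⟨hlg, mul_mem (hCN hl) hg⟩
    have haX : a ∈ X := mem_centralizer_iff.2 fun v hv => (h.commute_invols ih
      (hTCR.trans hCN) (fun hle => hCH (hCN.trans hle)) hNtop ha.2 ha.1 hao
      (hCN (hinv v hv.1 hv.2)) hv.2).eq
    refine ⟨a, haX, fun w hw => ?_⟩
    have hl' := mem_centralizer_iff.1 hl
    have hs' := mem_centralizer_iff.1 (hTCR (h.two_elt_mem hso (h.C_le_H hs.1)))
    have hgw : g * w * g⁻¹ ∈ (R : Subgroup G) := (mem_normalizer_iff.1 hg w).1 hw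
    have haw : a * w * a⁻¹ ∈ (R : Subgroup G) := (mem_normalizer_iff.1 ha.2 w).1 hw
    calc g * w * g⁻¹ = l * (g * w * g⁻¹) * l⁻¹ := by rw [← hl' _ hgw, mul_inv_cancel_right]
      _ = s * (a * w * a⁻¹) * s⁻¹ := by
        rw [show l * (g * w * g⁻¹) * l⁻¹ = (l * g) * w * (l * g)⁻¹ by group, hsa]; group
      _ = a * w * a⁻¹ := by rw [← hs' _ haw, mul_inv_cancel_right]
  -- the focal subgroup lies in `X'`
  have hfocal : (R : Subgroup G).focalSubgroup ≤ (_root_.commutator X).map X.subtype := by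
    rw [focalSubgroup_def, closure_le]
    rintro _ ⟨hmem, b, hb, v, rfl⟩
    rw [commutatorElement_def] at hmem ⊢
    have hc : v * b⁻¹ * v⁻¹ ∈ (R : Subgroup G) := by
      have := mul_mem (inv_mem hb) hmem
      rwa [show b⁻¹ * (b * v * b⁻¹ * v⁻¹) = v * b⁻¹ * v⁻¹ by group] at this
    obtain ⟨n, hn, hne⟩ := R.conj_eq_normalizer_conj_of_mem b⁻¹ v⁻¹ (inv_mem hb)
      (by rwa [inv_inv])
    obtain ⟨a, ha, hae⟩ := haut n⁻¹ (inv_mem hn)
    have he : v * b⁻¹ * v⁻¹ = a * b⁻¹ * a⁻¹ := by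
      rw [inv_inv] at hne
      rw [hne, ← hae _ (inv_mem hb), inv_inv]
    refine ⟨⁅(⟨b, hRX hb⟩ : X), ⟨a, ha⟩⁆, commutator_mem_commutator (mem_top _) (mem_top _), ?_⟩
    show b * a * b⁻¹ * a⁻¹ = b * v * b⁻¹ * v⁻¹
    rw [mul_assoc b a, mul_assoc b (a * b⁻¹), ← he]
    group
  have hyG : (y : G) ∉ _root_.commutator G := fun hmem => by
    have h1 : (y : G) ∈ (R : Subgroup G).focalSubgroup :=
      commutator_inf_eq_focalSubgroup R ▸ (⟨hmem, hyR⟩ : (y : G) ∈ _root_.commutator G ⊓ R)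
    obtain ⟨z, hz, e⟩ := mem_map.1 (hfocal h1)
    exact hyc (Subtype.ext e ▸ hz)
  refine ⟨(powMonoidHom (Nat.card (T : Subgroup G))).comp Abelianization.of, fun a ha => ?_,
    fun e => hyG ?_⟩
  · show Abelianization.of a ^ Nat.card (T : Subgroup G) = 1
    rw [← map_pow, orderOf_dvd_iff_pow_eq_one.1 (Subgroup.orderOf_dvd_natCard _ ha), map_one]
  · have h1 : Abelianization.of (y : G) ^ Nat.card (T : Subgroup G) = 1 := e.ge (mem_top (y : G))
    have h2 : orderOf (Abelianization.of (y : G)) ∣ 1 := by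
      have hd1 := orderOf_dvd_of_pow_eq_one h1
      have hd2 := orderOf_map_dvd (Abelianization.of : G →* _) (y : G)
      rw [hk] at hd2
      have hcop : (Nat.card (T : Subgroup G)).Coprime (r ^ k) := by
        haveI : Fact (Nat.Prime 2) := ⟨Nat.prime_two⟩
        obtain ⟨j, hj⟩ := IsPGroup.iff_card.1 T.isPGroup'
        rw [hj]
        exact Nat.Coprime.pow _ _ ((Nat.coprime_primes Nat.prime_two hr).2 (Ne.symm hr2))
      rw [← hcop.gcd_eq_one]
      exact Nat.dvd_gcd hd1 hd2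
    exact (QuotientGroup.eq_one_iff (y : G)).1 (orderOf_eq_one_iff.1 (Nat.dvd_one.1 h2))

/-- The case of a trivial odd core. -/
theorem eq_one_of_oddCore_eq_bot (ih : OddInCore.{v} (Nat.card G)) (hO : Cfsg.oddCore G = ⊥)
    {a : G} (ha : a ∈ 𝐂) (hao : Odd (orderOf a)) : a = 1 := by
  by_cases hI : ∀ b ∈ 𝐂, Odd (orderOf b) → b ≠ 1 → centralizer ({b} : Set G) ≤ 𝐇
  · obtain ⟨t, htT, ht⟩ := h.exists_invol
    exact eq_one_of_eq_inv_of_odd (eq_inv_of_mul_eq_one_left (h.elem a (C_le_T h hI ht htT ha))) hao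
  push Not at hI
  obtain ⟨b, hb, hbo, hb1, hbad⟩ := hI
  obtain ⟨r, hr, hrd⟩ := Nat.exists_prime_and_dvd (mt orderOf_eq_one_iff.1 hb1)
  have ho : orderOf (b ^ (orderOf b / r)) = r := orderOf_pow_orderOf_div (orderOf_pos b).ne' hrd
  obtain ⟨φ, hTk, hk⟩ := h.exists_hom ih hO (pow_mem hb (orderOf b / r))
    (ho.symm ▸ hr)
    (fun hle => hbad (le_trans (fun g hg => mem_centralizer_singleton.2
      (((mem_centralizer_singleton.1 hg : Commute b g)).pow_left _).eq) hle))
  exact h.eq_one_of_normal ih hO φ hTk hk ha hao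

end Hyp

theorem oddInCore : ∀ n : ℕ, OddInCore.{v} n := by
  intro n
  induction n using Nat.strong_induction_on with
  | _ n ihn =>
    intro G _ _ T h hlt a ha hao
    have ih : OddInCore.{v} (Nat.card G) := ihn _ hlt
    by_cases hO : Cfsg.oddCore G = ⊥
    · rw [h.eq_one_of_oddCore_eq_bot ih hO ha hao]
      exact one_mem _
    · haveI : (Cfsg.oddCore G).Normal := Cfsg.pPrimeCore_normal 2 G
      have hlt' : Nat.card (G ⧸ Cfsg.oddCore G) < Nat.card G := by
        rw [card_eq_card_quotient_mul_card_subgroup (Cfsg.oddCore G)]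
        exact lt_mul_of_one_lt_right Nat.card_pos
          (Finite.one_lt_card_iff_nontrivial.2 ((Subgroup.nontrivial_iff_ne_bot _).2 hO))
      have h1 := ih _ _ (h.quot _ (CfsgLib.Base.odd_card_oddCore G)) hlt'
        (QuotientGroup.mk' _ a) (mem_centralizer_iff.2 fun x hx => by
          rw [SetLike.mem_coe, Sylow.coe_mapSurjective, mem_map] at hx
          obtain ⟨b, hb, rfl⟩ := hx
          rw [← map_mul, ← map_mul, mem_centralizer_iff.1 ha b hb])
        (hao.of_dvd_nat (orderOf_map_dvd _ a))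
      rw [CfsgLib.CycInt.oddCore_quotient, mem_bot] at h1
      exact (QuotientGroup.eq_one_iff a).1 h1

/-- **The elements of odd order of `C(T)` lie in `O(G)`.** -/
theorem Hyp.odd_mem_oddCore {T : Sylow 2 G} (h : Hyp T) {a : G}
    (ha : a ∈ centralizer ((T : Subgroup G) : Set G)) (hao : Odd (orderOf a)) :
    a ∈ Cfsg.oddCore G :=
  oddInCore (Nat.card G + 1) G T h (Nat.lt_succ_self _) a ha hao

/-- With trivial odd core `G` has elementary abelian centralisers of involutions. -/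
theorem Hyp.elemAbCent_of_oddCore {T : Sylow 2 G} (h : Hyp T) (hO : Cfsg.oddCore G = ⊥) :
    ElemAbCent T :=
  h.elemAbCent fun a ha hao => mem_bot.1 (hO ▸ h.odd_mem_oddCore ha hao)

end CfsgLib.Recog.EqOrdConj
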