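import Cfsg.Agent.Lib.Recog.EqOrdConj.Quot
import Cfsg.Agent.Lib.Involutions.FourSwallow
import Cfsg.Agent.Lib.FT.OddOrderTheorem
import Cfsg.Agent.S4020
import Cfsg.Agent.S4025

/-!
# Groups whose subgroups of equal order are conjugate: local facts

No involution inverts an element of order `r` if one centralises such an element, the Sylow
subgroups of odd order are abelian, and if the Sylow `2`-subgroup `T` is elementary abelian of
order `4`, `8` or `32` then the centraliser of an involution lies in `N(T)`.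
-/

set_option autoImplicit false
set_option linter.unusedSectionVars false
set_option linter.style.haveILetI false
set_option linter.deprecated false
set_option linter.unusedVariables false

namespace CfsgLib.Recog.EqOrdConj

open Subgroup CfsgLib.Involutions
open scoped Pointwise

variable {G : Type*} [Group G] [Finite G]

/-- Any two subgroups of the same order are conjugate. -/
def EqConj (G : Type*) [Group G] : Prop :=
  ∀ H K : Subgroup G, Nat.card H = Nat.card K → ∃ g : G, K = H.map (MulAut.conj g).toMonoidHom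

theorem EqConj.quot (hC : EqConj G) (O : Subgroup G) [O.Normal] : EqConj (G ⧸ O) := by
  intro H K h
  have hs := QuotientGroup.mk'_surjective O
  have hker : ∀ L : Subgroup (G ⧸ O),
      Nat.card (L.comap (QuotientGroup.mk' O)) = Nat.card O * Nat.card L := by
    intro L
    exact CfsgLib.Base.card_comap_mk' O L
  obtain ⟨g, hg⟩ := hC (H.comap (QuotientGroup.mk' O)) (K.comap (QuotientGroup.mk' O))
    (by rw [hker, hker, h])
  refine ⟨QuotientGroup.mk' O g, ?_⟩
  rw [← map_comap_eq_self_of_surjective hs K, hg, map_map]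
  conv_rhs => rw [← map_comap_eq_self_of_surjective hs H, map_map]
  congr 1

theorem EqConj.noInv (hC : EqConj G) : NoInv G := by
  intro r hr hr2 t c x u ht hc htc hx hu hinv
  haveI := Fact.mk hr
  haveI : Fact (Nat.Prime 2) := ⟨Nat.prime_two⟩
  have hcop : (orderOf t).Coprime (orderOf c) := by
    rw [ht, hc]
    exact (Nat.coprime_primes Nat.prime_two hr).2 (Ne.symm hr2)
  have ho : orderOf (t * c) = 2 * r := by rw [htc.orderOf_mul_eq_mul_orderOf_of_coprime hcop, ht, hc]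
  set A := zpowers x with hA
  set B := zpowers u with hB
  have hBn : B ≤ normalizer (A : Set G) := by
    rw [hB, zpowers_le, mem_normalizer_iff_map_conj_eq, hA, MonoidHom.map_zpowers]
    show zpowers (u * x * u⁻¹) = _
    rw [hinv, zpowers_inv]
  have hdis : A ⊓ B = ⊥ := by
    refine inf_eq_bot_of_coprime ?_
    rw [Nat.card_zpowers, Nat.card_zpowers, hx, hu]
    exact (Nat.coprime_primes hr Nat.prime_two).2 hr2
  have hAB : Nat.card ↥(A ⊔ B) = 2 * r := by
    have h1 : ((A ⊔ B : Subgroup G) : Set G) = (A : Set G) * (B : Set G) := coe_mul_of_right_le_normalizer_left A B hBn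
    have h2 : Function.Injective fun p : A × B => ((p.1 : G) * p.2) := by
      rintro ⟨⟨a, ha⟩, ⟨b, hb⟩⟩ ⟨⟨a', ha'⟩, ⟨b', hb'⟩⟩ e
      have e' : a * b = a' * b' := e
      have h3 : a'⁻¹ * a = b' * b⁻¹ := by
        rw [eq_mul_inv_iff_mul_eq, mul_assoc, e', inv_mul_cancel_left]
      have h4 : a'⁻¹ * a ∈ A ⊓ B := mem_inf.2 ⟨A.mul_mem (A.inv_mem ha') ha, h3 ▸ B.mul_mem hb' (B.inv_mem hb)⟩
      rw [hdis, mem_bot, inv_mul_eq_one] at h4
      subst h4
      obtain rfl := mul_left_cancel e'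
      rfl
    have h3 : ((A : Set G) * (B : Set G)) = Set.range fun p : A × B => ((p.1 : G) * p.2) := by
      ext g
      constructor
      · rintro ⟨a, ha, b, hb, rfl⟩; exact ⟨(⟨a, ha⟩, ⟨b, hb⟩), rfl⟩
      · rintro ⟨p, rfl⟩; exact ⟨p.1, p.1.2, p.2, p.2.2, rfl⟩
    show Nat.card ((A ⊔ B : Subgroup G) : Set G) = _
    rw [h1, h3, Nat.card_range_of_injective h2, Nat.card_prod, Nat.card_zpowers, Nat.card_zpowers, hx, hu,
      mul_comm]
  obtain ⟨g, hg⟩ := hC (zpowers (t * c)) (A ⊔ B) (by rw [Nat.card_zpowers, ho, hAB])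
  have hcomm : Commute u x := by
    have hu' : u ∈ A ⊔ B := (le_sup_right : B ≤ A ⊔ B) (mem_zpowers u)
    have hx' : x ∈ A ⊔ B := (le_sup_left : A ≤ A ⊔ B) (mem_zpowers x)
    rw [hg, mem_map] at hu' hx'
    obtain ⟨a, ha, rfl⟩ := hu'
    obtain ⟨b, hb, rfl⟩ := hx'
    obtain ⟨i, rfl⟩ := mem_zpowers_iff.1 ha
    obtain ⟨j, rfl⟩ := mem_zpowers_iff.1 hb
    exact (Commute.zpow_zpow_self (t * c) i j).map _
  rw [hcomm.eq, mul_inv_cancel_right] at hinv
  have h2 : x = 1 := eq_one_of_eq_inv_of_odd hinv (hx ▸ hr.odd_of_ne_two hr2)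
  rw [h2, orderOf_one] at hx
  exact hr.ne_one hx.symm

theorem EqConj.pConj (hC : EqConj G) (p : ℕ) (_ : p.Prime) (H K : Subgroup G) (_ : IsPGroup p H)
    (_ : IsPGroup p K) (h : Nat.card H = Nat.card K) :
    ∃ g : G, K = H.map (MulAut.conj g).toMonoidHom := hC H K h

theorem EqConj.abelian (hC : EqConj G) {r : ℕ} (hr : r.Prime) (hr2 : r ≠ 2) (P : Subgroup G)
    (hP : IsPGroup r P) : IsMulCommutative P := by
  haveI := Fact.mk hr
  obtain ⟨S, hS⟩ := hP.exists_le_sylow
  have hSc : ∀ a ∈ (S : Subgroup G), ∀ b ∈ (S : Subgroup G), a * b = b * a := by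
    intro a ha b hb
    rcases Cfsg.Agent.S4020.result hC.pConj S with h | h | ⟨⟨e⟩⟩
    · haveI := h
      exact congrArg Subtype.val ((IsCyclic.commGroup (α := ↥(S : Subgroup G))).mul_comm ⟨a, ha⟩ ⟨b, hb⟩)
    · exact congrArg Subtype.val (h.1.is_comm.comm ⟨a, ha⟩ ⟨b, hb⟩)
    · have h1 := (Nat.card_congr e.toEquiv).trans (show Nat.card (QuaternionGroup 2) = 8 by
        rw [Nat.card_eq_fintype_card, QuaternionGroup.card])
      have h2 : (2 : ℕ) ∣ Nat.card (S : Subgroup G) := h1 ▸ by norm_num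
      obtain ⟨k, hk⟩ := IsPGroup.iff_card.1 S.isPGroup'
      rw [hk] at h2
      exact absurd ((Nat.prime_dvd_prime_iff_eq Nat.prime_two hr).1 (Nat.prime_two.dvd_of_dvd_pow h2)).symm hr2
  exact ⟨⟨fun a b => Subtype.ext (hSc _ (hS a.2) _ (hS b.2))⟩⟩

variable (T : Sylow 2 G)

/-- The hypotheses on an elementary abelian Sylow `2`-subgroup. -/
structure Elem : Prop where
  conj : EqConj G
  four : 4 ≤ Nat.card (T : Subgroup G)
  elem : ∀ a ∈ T, a * a = 1

namespace Elem

variable {T} (h : Elem T)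
include h

local notation "𝐇" => normalizer ((T : Subgroup G) : Set G)
local notation "𝐂" => centralizer ((T : Subgroup G) : Set G)

theorem comm_of_mem {a b : G} (ha : a ∈ T) (hb : b ∈ T) : Commute a b := by
  have hab := h.elem _ (mul_mem ha hb)
  show a * b = b * a
  calc a * b = (b * b) * (a * b) * (a * a) := by rw [h.elem a ha, h.elem b hb, one_mul, mul_one]
    _ = b * ((b * a) * (b * a)) * a := by group
    _ = b * a := by rw [h.elem _ (mul_mem hb ha), mul_one]

theorem orderOf_eq {a : G} (ha : a ∈ T) (ha1 : a ≠ 1) : orderOf a = 2 :=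
  orderOf_eq_prime (by rw [pow_two, h.elem a ha]) ha1

theorem exists_invol : ∃ t ∈ T, orderOf t = 2 := by
  haveI : Nontrivial (T : Subgroup G) :=
    Finite.one_lt_card_iff_nontrivial.1 (by have := h.four; omega)
  obtain ⟨⟨t, ht⟩, ht1⟩ := exists_ne (1 : (T : Subgroup G))
  exact ⟨t, ht, h.orderOf_eq ht fun e => ht1 (Subtype.ext e)⟩

theorem le_C : (T : Subgroup G) ≤ 𝐂 := fun a ha =>
  mem_centralizer_iff.2 fun b hb => (h.comm_of_mem hb ha).eq

theorem two_elt_mem {s : G} (hs : ∃ k, orderOf s = 2 ^ k) (hsH : s ∈ 𝐇) : s ∈ T := by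
  obtain ⟨k, hk⟩ := hs
  have hp : IsPGroup 2 (zpowers s) := by
    rw [IsPGroup.iff_card]; exact ⟨k, by rw [Nat.card_zpowers, hk]⟩
  have := T.is_maximal' (IsPGroup.to_sup_of_normal_left' T.isPGroup' hp (zpowers_le.2 hsH))
    le_sup_left
  exact this.le ((le_sup_right : zpowers s ≤ (T : Subgroup G) ⊔ zpowers s) (mem_zpowers s))

theorem cent_le {t : G} (ht : orderOf t = 2) (htT : t ∈ T) :
    centralizer ({t} : Set G) ≤ 𝐇 := by
  haveI : Fact (Nat.Prime 2) := ⟨Nat.prime_two⟩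
  set M := centralizer ({t} : Set G) with hM
  have hle : (T : Subgroup G) ≤ M := fun a ha =>
    mem_centralizer_singleton.2 (h.comm_of_mem htT ha).eq
  have hTp : ((T.subtype hle : Sylow 2 M) : Subgroup M) ≤ Cfsg.pCore 2 M := by
    intro a ha
    rw [Sylow.coe_subtype, mem_subgroupOf] at ha
    rcases eq_or_ne a 1 with rfl | ha1
    · exact one_mem _
    by_contra hnot
    have hao : orderOf a = 2 := by
      rw [← orderOf_coe]; exact h.orderOf_eq ha fun e => ha1 (Subtype.ext e)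
    obtain ⟨y, hy1, hyo, hay⟩ := exists_inverted_of_not_mem hao hnot
    obtain ⟨r, hr, hrd⟩ := Nat.exists_prime_and_dvd (mt orderOf_eq_one_iff.1 hy1)
    have hr2 : r ≠ 2 := by rintro rfl; exact absurd (hyo.of_dvd_nat hrd) (by decide)
    have ho := orderOf_pow_orderOf_div (orderOf_pos y).ne' hrd
    exact h.conj.noInv r hr hr2 t ((y ^ (orderOf y / r) : M) : G) _ (a : G) ht
      (by rw [orderOf_coe]; exact ho) (mem_centralizer_singleton.1 (y ^ (orderOf y / r) : M).2)
      (by rw [orderOf_coe]; exact ho) (by rw [orderOf_coe]; exact hao)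
      (congrArg Subtype.val (show a * y ^ (orderOf y / r) * a⁻¹ = (y ^ (orderOf y / r))⁻¹ by
        rw [← conj_pow, hay, inv_pow]))
  have heq := (T.subtype hle).is_maximal' (CfsgLib.Base.isPGroup_pCore 2 M) hTp
  haveI hn : ((T : Subgroup G).subgroupOf M).Normal := by
    rw [← Sylow.coe_subtype T hle, ← heq]
    exact Cfsg.pCore_normal 2 M
  exact (normal_subgroupOf_iff_le_normalizer hle).1 hn

theorem fusion {a g : G} (ha : a ∈ T) (hg : g * a * g⁻¹ ∈ T) :
    ∃ m ∈ 𝐇, m * a * m⁻¹ = g * a * g⁻¹ := by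
  haveI : Fact (Nat.Prime 2) := ⟨Nat.prime_two⟩
  obtain ⟨m, hm, e⟩ := Cfsg.Agent.S4025.fusion T (fun x hx y hy => (h.comm_of_mem hx hy).eq)
    (zpowers a) g (zpowers_le.2 ha) (fun x hx => by
      obtain ⟨j, rfl⟩ := mem_zpowers_iff.1 hx
      rw [← conj_zpow]; exact zpow_mem hg j)
  exact ⟨m, hm, e a (mem_zpowers a)⟩

theorem exists_conj {t s : G} (ht : orderOf t = 2) (htT : t ∈ T) (hs : orderOf s = 2) (hsT : s ∈ T) :
    ∃ m ∈ 𝐇, m * t * m⁻¹ = s := by
  obtain ⟨g, hg⟩ := h.conj (zpowers t) (zpowers s) (by rw [Nat.card_zpowers, Nat.card_zpowers, ht, hs])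
  have h1 : g * t * g⁻¹ ∈ zpowers s := by
    rw [hg]; exact mem_map_of_mem _ (mem_zpowers t)
  obtain ⟨j, hj⟩ := mem_zpowers_iff.1 h1
  have h2 : g * t * g⁻¹ = s := by
    rcases Int.even_or_odd j with ⟨i, rfl⟩ | ⟨i, rfl⟩
    · exfalso
      rw [← two_mul, zpow_mul, zpow_two, h.elem s hsT, one_zpow] at hj
      have := conj_invol g ht
      rw [← hj, orderOf_one] at this
      omega
    · rw [← hj, zpow_add_one, zpow_mul, zpow_two, h.elem s hsT, one_zpow, one_mul]
  obtain ⟨m, hm, e⟩ := h.fusion htT (h2 ▸ hsT)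
  exact ⟨m, hm, e.trans h2⟩

/-- Orbit and stabiliser of an involution in `N(T)`. -/
theorem card_N {t : G} (ht : orderOf t = 2) (htT : t ∈ T) :
    Nat.card (centralizer ({t} : Set G)) * (Nat.card (T : Subgroup G) - 1) = Nat.card 𝐇 := by
  classical
  set M := centralizer ({t} : Set G) with hM
  have hle : M ≤ 𝐇 := h.cent_le ht htT
  have hS : Nat.card (T : Subgroup G) - 1 = Nat.card {s : (T : Subgroup G) // s ≠ 1} := by
    haveI := Fintype.ofFinite (T : Subgroup G)
    rw [Nat.card_eq_fintype_card, Nat.card_eq_fintype_card, Fintype.card_subtype_compl,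
      Fintype.card_subtype_eq]
  have hmem : ∀ g : 𝐇, (g : G) * t * (g : G)⁻¹ ∈ (T : Subgroup G) := fun g =>
    (mem_normalizer_iff.1 g.2 t).1 htT
  let f : 𝐇 ⧸ M.subgroupOf 𝐇 → {s : (T : Subgroup G) // s ≠ 1} := fun q =>
    Quotient.liftOn' q (fun g => ⟨⟨_, hmem g⟩, fun e => by
      have := conj_invol (g : G) ht
      rw [show (g : G) * t * (g : G)⁻¹ = 1 from congrArg Subtype.val e, orderOf_one] at this
      omega⟩) (fun a b hab => by
        rw [QuotientGroup.leftRel_apply, mem_subgroupOf] at hab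
        have h1 : Commute t ((a : G)⁻¹ * b) := mem_centralizer_singleton.1 hab
        refine Subtype.ext (Subtype.ext ?_)
        show (a : G) * t * (a : G)⁻¹ = b * t * (b : G)⁻¹
        calc (a : G) * t * (a : G)⁻¹ = a * (t * ((a : G)⁻¹ * b)) * ((a : G)⁻¹ * b)⁻¹ * (a : G)⁻¹ := by group
          _ = a * (((a : G)⁻¹ * b) * t) * ((a : G)⁻¹ * b)⁻¹ * (a : G)⁻¹ := by rw [h1.eq]
          _ = b * t * (b : G)⁻¹ := by group)
  have hf : Function.Bijective f := by
    refine ⟨fun p q e => ?_, fun s => ?_⟩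
    · obtain ⟨a, rfl⟩ := QuotientGroup.mk_surjective p
      obtain ⟨b, rfl⟩ := QuotientGroup.mk_surjective q
      have e' : (a : G) * t * (a : G)⁻¹ = b * t * (b : G)⁻¹ :=
        congrArg (fun z : {s : (T : Subgroup G) // s ≠ 1} => ((z : (T : Subgroup G)) : G)) e
      refine QuotientGroup.eq.2 (mem_subgroupOf.2 (mem_centralizer_singleton.2 ?_))
      show Commute t ((a : G)⁻¹ * b)
      refine Commute.symm ?_
      show (a : G)⁻¹ * b * t = t * ((a : G)⁻¹ * b)
      calc (a : G)⁻¹ * b * t = (a : G)⁻¹ * (b * t * (b : G)⁻¹) * b := by group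
        _ = t * ((a : G)⁻¹ * b) := by rw [← e']; group
    · obtain ⟨m, hm, e⟩ := h.exists_conj ht htT
        (h.orderOf_eq s.1.2 fun e => s.2 (Subtype.ext e)) s.1.2
      exact ⟨QuotientGroup.mk ⟨m, hm⟩, Subtype.ext (Subtype.ext e)⟩
  rw [hS, ← Nat.card_eq_of_bijective f hf, ← Subgroup.index_eq_card,
    ← Nat.card_congr (subgroupOfEquivOfLe hle).toEquiv, Subgroup.card_mul_index]

/-- `C(T) = T × O(N(T))`. -/
theorem card_C : Nat.card 𝐂 = Nat.card (T : Subgroup G) * Nat.card (Cfsg.oddCore 𝐇) := by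
  haveI : Fact (Nat.Prime 2) := ⟨Nat.prime_two⟩
  haveI hOn : (Cfsg.oddCore 𝐇).Normal := Cfsg.pPrimeCore_normal 2 _
  have hCH : 𝐂 ≤ 𝐇 := centralizer_le_normalizer _
  haveI hTn : (((T.subtype h.le_C) : Subgroup 𝐂)).Normal := ⟨fun a ha g => by
    rw [Sylow.coe_subtype, mem_subgroupOf] at ha ⊢
    exact (mem_normalizer_iff.1 (hCH g.2) _).1 ha⟩
  obtain ⟨K, hK⟩ := exists_right_complement'_of_coprime
    (N := ((T.subtype h.le_C) : Subgroup 𝐂)) (T.subtype h.le_C).card_coprime_index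
  have hKodd : Odd (Nat.card K) := by
    rw [← hK.symm.index_eq_card, ← Nat.not_even_iff_odd, even_iff_two_dvd]
    exact (T.subtype h.le_C).not_dvd_index
  have hTc : Nat.card ((T.subtype h.le_C) : Subgroup 𝐂) = Nat.card (T : Subgroup G) := by
    rw [Sylow.coe_subtype, Nat.card_congr (subgroupOfEquivOfLe h.le_C).toEquiv]
  set K' : Subgroup 𝐇 := (K.map (inclusion hCH)) with hK'
  have hK'c : Nat.card K' = Nat.card K := card_map_of_injective (inclusion_injective hCH)
  haveI : K'.Normal := by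
    refine ⟨fun a ha g => ?_⟩
    obtain ⟨k, hk, rfl⟩ := mem_map.1 ha
    have hgC : (g : G) * (k : G) * (g : G)⁻¹ ∈ 𝐂 := by
      refine mem_centralizer_iff.2 fun x hx => ?_
      have h1 := mem_centralizer_iff.1 k.2 ((g : G)⁻¹ * x * g) (by
        have e := (mem_normalizer_iff.1 (inv_mem g.2) x).1 hx
        rwa [inv_inv] at e)
      calc x * ((g : G) * k * (g : G)⁻¹) = g * ((g : G)⁻¹ * x * g * k) * (g : G)⁻¹ := by group
        _ = (g : G) * k * (g : G)⁻¹ * x := by rw [h1]; group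
    obtain ⟨⟨⟨a, ha⟩, ⟨b, hb⟩⟩, hab⟩ := hK.2 ⟨_, hgC⟩
    have hab' : a * b = ⟨_, hgC⟩ := hab
    have ha' : (a : G) ∈ T := by
      rw [SetLike.mem_coe, Sylow.coe_subtype, mem_subgroupOf] at ha; exact ha
    have hcomm : Commute a b := Subtype.ext (mem_centralizer_iff.1 b.2 _ ha')
    have h2 : (⟨_, hgC⟩ : 𝐂) ^ Nat.card K = 1 := Subtype.ext (by
      rw [SubgroupClass.coe_pow, conj_pow, ← SubgroupClass.coe_pow,
        orderOf_dvd_iff_pow_eq_one.1 (Subgroup.orderOf_dvd_natCard K hk), coe_one, mul_one,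
        mul_inv_cancel])
    rw [← hab', hcomm.mul_pow, orderOf_dvd_iff_pow_eq_one.1 (Subgroup.orderOf_dvd_natCard K hb),
      mul_one] at h2
    obtain ⟨j, hj⟩ := hKodd
    have ha1 : a = 1 := by
      have hsq : a ^ 2 = 1 := Subtype.ext (by rw [SubgroupClass.coe_pow, pow_two, h.elem _ ha', coe_one])
      rwa [hj, pow_succ, pow_mul, hsq, one_pow, one_mul] at h2
    rw [ha1, one_mul] at hab'
    exact mem_map.2 ⟨b, hb, Subtype.ext (congrArg Subtype.val hab' :)⟩
  have h1 : Nat.card K ∣ Nat.card (Cfsg.oddCore 𝐇) :=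
    hK'c ▸ Subgroup.card_dvd_of_le (CfsgLib.Base.le_oddCore (N := K') (hK'c ▸ hKodd))
  set O' : Subgroup G := (Cfsg.oddCore 𝐇).map (Subgroup.subtype _) with hO'
  have hO'c : Nat.card O' = Nat.card (Cfsg.oddCore 𝐇) := card_map_of_injective (subtype_injective _)
  have h2 : O' ≤ 𝐂 := by
    rintro _ ⟨k, hk, rfl⟩
    refine mem_centralizer_iff.2 fun a ha => ?_
    haveI : ((T : Subgroup G).subgroupOf 𝐇).Normal := normal_in_normalizer
    exact congrArg Subtype.val (commute_of_normal_of_disjoint ((T : Subgroup G).subgroupOf 𝐇)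
      (Cfsg.oddCore 𝐇) inferInstance hOn (disjoint_iff.2 (inf_eq_bot_of_coprime (by
        rw [Nat.card_congr (subgroupOfEquivOfLe le_normalizer).toEquiv]
        obtain ⟨j, hj⟩ := IsPGroup.iff_card.1 T.isPGroup'
        rw [hj]
        exact Nat.Coprime.pow_left _ (Nat.coprime_two_left.2 (CfsgLib.Base.odd_card_oddCore _)))))
      ⟨a, le_normalizer ha⟩ k ha hk).eq
  have h3 : Nat.card O' ∣ Nat.card (T : Subgroup G) * Nat.card K := by
    rw [← hTc, hK.card_mul_card]; exact Subgroup.card_dvd_of_le h2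
  have hcop : (Nat.card O').Coprime (Nat.card (T : Subgroup G)) := by
    obtain ⟨j, hj⟩ := IsPGroup.iff_card.1 T.isPGroup'
    rw [hO'c, hj]
    exact Nat.Coprime.pow_right _ (Nat.coprime_two_right.2 (CfsgLib.Base.odd_card_oddCore _))
  rw [← hK.card_mul_card, hTc, ← Nat.dvd_antisymm h1 (hO'c ▸ hcop.dvd_of_dvd_mul_left h3)]

theorem solvable_N : Group.IsSolvable (𝐇 ⧸ Cfsg.pPrimeCore 2 𝐇) := by
  haveI : Fact (Nat.Prime 2) := ⟨Nat.prime_two⟩
  haveI : ((T : Subgroup G).subgroupOf 𝐇).Normal := normal_in_normalizer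
  haveI : IsMulCommutative ((T : Subgroup G).subgroupOf 𝐇) :=
    ⟨⟨fun a b => Subtype.ext (Subtype.ext (h.comm_of_mem a.2 b.2).eq)⟩⟩
  have hidx : Odd (Nat.card (𝐇 ⧸ (T : Subgroup G).subgroupOf 𝐇)) := by
    rw [← Subgroup.index_eq_card, ← Nat.not_even_iff_odd, even_iff_two_dvd]
    intro h2
    exact T.not_dvd_index (h2.trans (Dvd.intro _ (Subgroup.relIndex_mul_index le_normalizer)))
  haveI := CfsgLib.FT.isSolvable_of_odd hidx
  haveI : Group.IsSolvable ((T : Subgroup G).subgroupOf 𝐇) := Group.isSolvable_of_comm fun a b =>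
    Subtype.ext (Subtype.ext (h.comm_of_mem a.2 b.2).eq)
  haveI : Group.IsSolvable 𝐇 := Group.isSolvable_of_ker_le_range ((T : Subgroup G).subgroupOf 𝐇).subtype
    (QuotientGroup.mk' ((T : Subgroup G).subgroupOf 𝐇)) (by rw [QuotientGroup.ker_mk', range_subtype])
  exact Group.isSolvable_of_surjective (f := QuotientGroup.mk' _) (QuotientGroup.mk'_surjective _)

/-- For `|T| = 4` the centraliser of an involution centralises `T`. -/
theorem cent_eq_of_four {t : G} (ht : orderOf t = 2) (htT : t ∈ T)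
    (h4 : Nat.card (T : Subgroup G) = 4) : centralizer ({t} : Set G) = 𝐂 := by
  classical
  refine le_antisymm (fun c hc => ?_) (fun c hc =>
    mem_centralizer_singleton.2 (mem_centralizer_iff.1 hc t htT))
  have hct : Commute c t := (mem_centralizer_singleton.1 hc).symm
  have hcH := h.cent_le ht htT hc
  obtain ⟨⟨s, hs⟩, hs1, hst⟩ : ∃ s : (T : Subgroup G), (s : G) ≠ 1 ∧ (s : G) ≠ t := by
    by_contra hno
    push Not at hno
    have hle : (T : Subgroup G) ≤ zpowers t := fun b hb => by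
      rcases eq_or_ne b 1 with rfl | hb1
      · exact one_mem _
      · rw [show b = t from hno ⟨b, hb⟩ hb1]; exact mem_zpowers t
    have := Subgroup.card_le_of_le hle
    rw [Nat.card_zpowers, ht] at this
    omega
  dsimp at hs1 hst
  have hall : ∀ b ∈ T, b = 1 ∨ b = t ∨ b = s ∨ b = t * s := by
    intro b hb
    by_contra hno
    push Not at hno
    obtain ⟨hb1, hbt, hbs, hbts⟩ := hno
    have hne : t * s ≠ 1 ∧ t * s ≠ t ∧ t * s ≠ s :=
      ⟨fun e => hst ((eq_inv_of_mul_eq_one_right e).trans (invol_inv ht)),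
        fun e => hs1 (mul_eq_left.1 e),
        fun e => by rw [mul_eq_right] at e; rw [e, orderOf_one] at ht; omega⟩
    have ht1 : t ≠ 1 := fun e => by rw [e, orderOf_one] at ht; omega
    have hinj : Function.Injective ![(⟨1, one_mem _⟩ : (T : Subgroup G)), ⟨t, htT⟩, ⟨s, hs⟩,
        ⟨t * s, mul_mem htT hs⟩, ⟨b, hb⟩] := by
      intro i j e
      fin_cases i <;> fin_cases j <;>
        simp_all [Subtype.ext_iff, eq_comm]
    have := Nat.card_le_card_of_injective _ hinj
    rw [Nat.card_fin, h4] at this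
    omega
  have hc2 : c * c ∈ 𝐂 := by
    have hcs : c * s * c⁻¹ ∈ T := (mem_normalizer_iff.1 hcH s).1 hs
    have key : c * (c * s * c⁻¹) * c⁻¹ = s := by
      rcases hall _ hcs with e | e | e | e
      · exact absurd (conj_eq_one_iff.1 e) hs1
      · exfalso
        rw [← mul_inv_cancel_right t c, ← hct.eq, mul_left_inj, mul_right_inj] at e
        exact hst e
      · rw [e, e]
      · calc c * (c * s * c⁻¹) * c⁻¹ = c * t * c⁻¹ * (c * s * c⁻¹) := by
              conv_lhs => rw [e]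
              group
          _ = t * (t * s) := by rw [e, hct.eq, mul_inv_cancel_right]
          _ = s := by rw [← mul_assoc, h.elem t htT, one_mul]
    refine mem_centralizer_iff.2 fun b hb => ?_
    have h2s : (c * c) * s * (c * c)⁻¹ = s := by
      rw [show (c * c) * s * (c * c)⁻¹ = c * (c * s * c⁻¹) * c⁻¹ by group, key]
    have hs' : Commute (c * c) s := mul_inv_eq_iff_eq_mul.1 h2s
    have ht' : Commute (c * c) t := hct.mul_left hct
    rcases hall b hb with rfl | rfl | rfl | rfl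
    · rw [one_mul, mul_one]
    · exact ht'.symm.eq
    · exact hs'.symm.eq
    · exact (ht'.mul_right hs').symm.eq
  obtain ⟨s', a, rfl, hs', ha, hso, hao, hcm⟩ : ∃ s a : G, c = s * a ∧ s ∈ zpowers c ∧ a ∈ zpowers c ∧
      (∃ k, orderOf s = 2 ^ k) ∧ Odd (orderOf a) ∧ Commute s a := exists_two_odd' (mem_zpowers c)
  refine mul_mem (h.le_C (h.two_elt_mem hso ((zpowers_le.2 hcH) hs'))) ?_
  obtain ⟨i, hi⟩ := mem_zpowers_iff.1 ha
  obtain ⟨j, hj⟩ := hao
  have hsq : a ^ 2 ∈ 𝐂 := by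
    rw [← hi, ← zpow_natCast, ← zpow_mul, mul_comm i, zpow_mul, zpow_natCast, pow_two]
    exact zpow_mem hc2 i
  have : a = (a ^ 2) ^ (j + 1) := by
    rw [← pow_mul, show 2 * (j + 1) = 2 * j + 1 + 1 by ring, pow_succ, ← hj, pow_orderOf_eq_one, one_mul]
  rw [this]
  exact pow_mem hsq _
where
  exists_two_odd' {K : Subgroup G} {c : G} (hc : c ∈ K) : ∃ s a : G,
      c = s * a ∧ s ∈ K ∧ a ∈ K ∧ (∃ k, orderOf s = 2 ^ k) ∧ Odd (orderOf a) ∧ Commute s a := by
    obtain ⟨k, m, hm, he⟩ := Nat.exists_eq_two_pow_mul_odd (orderOf_pos c).ne'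
    have hcop : (2 ^ k).Coprime m := Nat.Coprime.pow_left _ (Nat.coprime_two_left.2 hm)
    have hb : ((2 ^ k : ℕ) : ℤ) * Nat.gcdA (2 ^ k) m + (m : ℤ) * Nat.gcdB (2 ^ k) m = 1 := by
      rw [← Nat.gcd_eq_gcd_ab, hcop.gcd_eq_one, Nat.cast_one]
    refine ⟨c ^ ((m : ℤ) * Nat.gcdB (2 ^ k) m), c ^ (((2 ^ k : ℕ) : ℤ) * Nat.gcdA (2 ^ k) m), ?_,
      zpow_mem hc _, zpow_mem hc _, ?_, ?_, Commute.zpow_zpow_self c _ _⟩
    · rw [← zpow_add, add_comm, hb, zpow_one]
    · refine (Nat.dvd_prime_pow Nat.prime_two).1 (orderOf_dvd_of_pow_eq_one (n := 2 ^ k) ?_)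
        |>.imp fun j hj => hj.2
      rw [← zpow_natCast, ← zpow_mul,
        show (m : ℤ) * Nat.gcdB (2 ^ k) m * ((2 ^ k : ℕ) : ℤ) = (orderOf c : ℤ) * Nat.gcdB (2 ^ k) m by
          rw [he]; push_cast; ring,
        zpow_mul, zpow_natCast, pow_orderOf_eq_one, one_zpow]
    · refine hm.of_dvd_nat (orderOf_dvd_of_pow_eq_one ?_)
      rw [← zpow_natCast, ← zpow_mul,
        show ((2 ^ k : ℕ) : ℤ) * Nat.gcdA (2 ^ k) m * (m : ℤ) = (orderOf c : ℤ) * Nat.gcdA (2 ^ k) m by
          rw [he]; push_cast; ring,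
        zpow_mul, zpow_natCast, pow_orderOf_eq_one, one_zpow]

end Elem

end CfsgLib.Recog.EqOrdConj
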