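import Cfsg.Agent.Lib.Recog.EqOrdConj.Socle
import Cfsg.Agent.Lib.Recog.EqOrdConj.Small
import Cfsg.Agent.Lib.KnownB.PSLAut.Out
import Cfsg.Agent.Lib.Fusion.CenterTwo

/-!
# Groups whose subgroups of equal order are conjugate: the quotient by the odd core
-/

set_option autoImplicit false
set_option linter.unusedSectionVars false
set_option linter.style.haveILetI false
set_option linter.deprecated false

universe u

namespace CfsgLib.Recog.EqOrdConj

open Subgroup CfsgLib.Involutions

variable {G : Type*} [Group G] [Finite G] {T : Sylow 2 G}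

theorem card_semiaffine (F : Type) [Field F] [Finite F] :
    Nat.card (Cfsg.semiaffineGroup F) = (Nat.card F - 1) * Nat.card F * Nat.card (F ≃+* F) := by
  haveI : Finite (F ≃+* F) := Finite.of_injective (fun φ => (φ : F → F)) DFunLike.coe_injective
  let f : Fˣ × F × (F ≃+* F) → Cfsg.semiaffineGroup F := fun t =>
    ⟨t.2.2.toEquiv.trans ((Equiv.mulLeft₀ (t.1 : F) t.1.ne_zero).trans (Equiv.addRight t.2.1)),
      t.1, t.2.1, t.2.2, fun _ => rfl⟩
  have hf : Function.Bijective f := by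
    refine ⟨?_, ?_⟩
    · rintro ⟨a, b, φ⟩ ⟨a', b', φ'⟩ e
      have h : ∀ x, (a : F) * φ x + b = (a' : F) * φ' x + b' := fun x =>
        Equiv.congr_fun (congrArg Subtype.val e) x
      have hb : b = b' := by simpa using h 0
      subst hb
      have ha : a = a' := Units.ext (by simpa using h 1)
      subst ha
      have hφ : φ = φ' := RingEquiv.ext fun x => by simpa using h x
      subst hφ
      rfl
    · rintro ⟨s, a, b, φ, hs⟩
      exact ⟨(a, b, φ), Subtype.ext (Equiv.ext fun x => (hs x).symm)⟩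
  rw [← Nat.card_eq_of_bijective f hf, Nat.card_prod, Nat.card_prod, Nat.card_units, mul_assoc]

theorem card_affine (F : Type) [Field F] [Finite F] :
    Nat.card (Cfsg.affineGroup F) = (Nat.card F - 1) * Nat.card F := by
  let f : Fˣ × F → Cfsg.affineGroup F := fun t =>
    ⟨(Equiv.mulLeft₀ (t.1 : F) t.1.ne_zero).trans (Equiv.addRight t.2), t.1, t.2, fun _ => rfl⟩
  have hf : Function.Bijective f := by
    refine ⟨?_, ?_⟩
    · rintro ⟨a, b⟩ ⟨a', b'⟩ e
      have h : ∀ x, (a : F) * x + b = (a' : F) * x + b' := fun x =>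
        Equiv.congr_fun (congrArg Subtype.val e) x
      have hb : b = b' := by simpa using h 0
      subst hb
      have ha : a = a' := Units.ext (by simpa using h 1)
      subst ha
      rfl
    · rintro ⟨s, a, b, hs⟩
      exact ⟨(a, b), Subtype.ext (Equiv.ext fun x => (hs x).symm)⟩
  rw [← Nat.card_eq_of_bijective f hf, Nat.card_prod, Nat.card_units]

namespace Elem

variable (h : Elem T)
include h

local notation "𝐇" => normalizer ((T : Subgroup G) : Set G)
local notation "𝐂" => centralizer ((T : Subgroup G) : Set G)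

theorem oddCore_N_eq_bot (hO : Cfsg.oddCore G = ⊥) (hn : (T : Subgroup G).Normal) :
    Cfsg.oddCore 𝐇 = ⊥ := by
  haveI : (𝐇).Normal := by rw [normalizer_eq_top_iff.2 hn]; infer_instance
  have h2 : (Cfsg.oddCore 𝐇).map (Subgroup.subtype _) ≤ Cfsg.oddCore G :=
    (CfsgLib.Base.map_pPrimeCore_eq_inf (p := 2) 𝐇).le.trans inf_le_left
  rw [hO, le_bot_iff, Subgroup.map_eq_bot_iff, Subgroup.ker_subtype, le_bot_iff] at h2
  exact h2

/-- All involutions of `T` have the centraliser of `T` if one has. -/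
theorem cent_all {t : G} (ht : orderOf t = 2) (htT : t ∈ T)
    (hc : centralizer ({t} : Set G) = 𝐂) (s : G) (hs : orderOf s = 2) (hsT : s ∈ T) :
    centralizer ({s} : Set G) = 𝐂 := by
  obtain ⟨m, hm, e⟩ := h.exists_conj hs hsT ht htT
  refine le_antisymm (fun c hc' => ?_) fun c hc' =>
    mem_centralizer_singleton.2 (mem_centralizer_iff.1 hc' s hsT)
  have h1 : m * c * m⁻¹ ∈ 𝐂 := hc ▸ mem_centralizer_singleton.2 (e ▸
    (mem_centralizer_singleton.1 hc' : Commute s c).map (MulAut.conj m))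
  refine mem_centralizer_iff.2 fun x hx => ?_
  have h2 := mem_centralizer_iff.1 h1 (m * x * m⁻¹) ((mem_normalizer_iff.1 hm x).1 hx)
  calc x * c = m⁻¹ * ((m * x * m⁻¹) * (m * c * m⁻¹)) * m := by group
    _ = c * x := by rw [h2]; group

/-- `|T| = 4`. -/
theorem four_case (hO : Cfsg.oddCore G = ⊥) (h4 : Nat.card (T : Subgroup G) = 4) :
    Nonempty (G ≃* alternatingGroup (Fin 4)) ∨ Nonempty (G ≃* alternatingGroup (Fin 5)) := by
  obtain ⟨t, htT, ht⟩ := h.exists_invol
  by_cases hn : (T : Subgroup G).Normal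
  · left
    refine equiv_alt_four ?_ hO
    have h1 := h.card_N ht htT
    rw [h.cent_eq_of_four ht htT h4, h.card_C, h.oddCore_N_eq_bot hO hn, card_bot, h4,
      normalizer_eq_top_iff.2 hn, card_top] at h1
    omega
  · right
    have hE := (h.hyp hn (h.cent_all ht htT (h.cent_eq_of_four ht htT h4))).elemAbCent_of_oddCore hO
    obtain ⟨k, -, hF, ⟨e⟩⟩ := hE.exists_iso_PSL
    obtain ⟨e'⟩ := equiv_alt_five_psl (F := GaloisField 2 k) (hF.trans h4)
    exact ⟨e.trans e'⟩

/-- `|T| > 4`. -/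
theorem big_case (hO : Cfsg.oddCore G = ⊥) (h4 : Nat.card (T : Subgroup G) ≠ 4) :
    Nonempty (G ≃* Cfsg.affineGroup (GaloisField 2 3)) ∨
    Nonempty (G ≃* Cfsg.semiaffineGroup (GaloisField 2 3)) ∨
    Nonempty (G ≃* Cfsg.semiaffineGroup (GaloisField 2 5)) ∨
    Nonempty (G ≃* Matrix.ProjectiveSpecialLinearGroup (Fin 2) (GaloisField 2 3)) ∨
    Nonempty (G ≃* MulAut (Matrix.ProjectiveSpecialLinearGroup (Fin 2) (GaloisField 2 5))) := by
  classical
  haveI : Fact (Nat.Prime 2) := ⟨Nat.prime_two⟩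
  obtain ⟨n, hn⟩ := IsPGroup.iff_card.1 T.isPGroup'
  have hn3 : 3 ≤ n := by
    have := h.four
    rw [hn] at this h4
    by_contra hlt
    interval_cases n <;> simp_all
  have hel : Cfsg.IsElementaryAbelian 2 (T : Subgroup G) :=
    ⟨⟨⟨fun a b => Subtype.ext (h.comm_of_mem a.2 b.2).eq⟩⟩, fun a ha => by rw [pow_two, h.elem a ha]⟩
  obtain ⟨t, htT, ht⟩ := h.exists_invol
  have hN1 := h.card_N ht htT
  have hC1 := h.card_C
  have hQ : Nat.card 𝐇 = Nat.card (𝐇 ⧸ Cfsg.pPrimeCore 2 𝐇) * Nat.card (Cfsg.oddCore 𝐇) :=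
    card_eq_card_quotient_mul_card_subgroup _
  have hnorm : (T : Subgroup G).Normal → Nonempty (G ≃* 𝐇 ⧸ Cfsg.pPrimeCore 2 𝐇) := fun hnor =>
    ⟨(Subgroup.topEquiv.symm.trans (MulEquiv.subgroupCongr (normalizer_eq_top_iff.2 hnor).symm)).trans
      (QuotientGroup.quotientBot.symm.trans (QuotientGroup.quotientMulEquivOfEq
        (show ⊥ = Cfsg.pPrimeCore 2 𝐇 from (h.oddCore_N_eq_bot hO hnor).symm)))⟩
  have hcent : Nat.card (centralizer ({t} : Set G)) = Nat.card 𝐂 → centralizer ({t} : Set G) = 𝐂 :=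
    fun e => (Subgroup.eq_of_le_of_card_ge
      (fun c hc => mem_centralizer_singleton.2 (mem_centralizer_iff.1 hc t htT)) e.le).symm
  have hF3 : Nat.card (GaloisField 2 3) = 8 := GaloisField.card 2 3 (by norm_num)
  have hF5 : Nat.card (GaloisField 2 5) = 32 := GaloisField.card 2 5 (by norm_num)
  rcases Cfsg.Agent.S4025.result (p := 2) (fun H K _ _ e => h.conj H K e) T n hn3 hel hn _ rfl
      h.solvable_N with ⟨rfl, -, h3⟩ | ⟨rfl, -, ⟨e⟩⟩
  · rcases h3 rfl with ⟨⟨e⟩⟩ | ⟨⟨e⟩⟩
    · by_cases hnor : (T : Subgroup G).Normal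
      · obtain ⟨e'⟩ := hnorm hnor
        exact Or.inr (Or.inl ⟨e'.trans e⟩)
      exfalso
      have hc : Nat.card (𝐇 ⧸ Cfsg.pPrimeCore 2 𝐇) = 168 := by
        rw [Nat.card_congr e.toEquiv, card_semiaffine,
          CfsgLib.SolvStruct.PlaneTransitive.card_ringAut' (p := 2) (n := 3) (hF3.trans rfl), hF3]
      have hidx : Nat.card (centralizer ({t} : Set G)) = 3 * Nat.card 𝐂 := by
        rw [hQ, hc, hn] at hN1
        rw [hC1, hn]
        norm_num at hN1 ⊢
        omega
      obtain ⟨L, hLn, hle, hE, hr, -⟩ := h.exists_socle hO hnor (n := 3) Nat.prime_three (by norm_num) hn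
        (fun k h1 h2 h3 => by interval_cases k <;> simp_all [Nat.ModEq]) ht htT hidx
      obtain ⟨k, -, hF, ⟨eL⟩⟩ := hE.exists_iso_PSL
      apply hr
      rw [Nat.card_congr eL.toEquiv, CfsgLib.Classical.card_PSL_two, hF, Sylow.coe_subtype,
        Nat.card_congr (subgroupOfEquivOfLe hle).toEquiv, hn]
      decide
    · by_cases hnor : (T : Subgroup G).Normal
      · obtain ⟨e'⟩ := hnorm hnor
        exact Or.inl ⟨e'.trans e⟩
      right; right; right; left
      have hc : Nat.card (𝐇 ⧸ Cfsg.pPrimeCore 2 𝐇) = 56 := by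
        rw [Nat.card_congr e.toEquiv, card_affine, hF3]
      have hidx : Nat.card (centralizer ({t} : Set G)) = Nat.card 𝐂 := by
        rw [hQ, hc, hn] at hN1
        rw [hC1, hn]
        norm_num at hN1 ⊢
        omega
      have hE := (h.hyp hnor (h.cent_all ht htT (hcent hidx))).elemAbCent_of_oddCore hO
      obtain ⟨k, hk, -, ⟨eG⟩⟩ := hE.exists_iso_PSL
      obtain rfl : k = 3 := Nat.pow_right_injective le_rfl (hk.symm.trans hn)
      exact ⟨eG⟩
  · by_cases hnor : (T : Subgroup G).Normal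
    · obtain ⟨e'⟩ := hnorm hnor
      exact Or.inr (Or.inr (Or.inl ⟨e'.trans e⟩))
    right; right; right; right
    haveI : Fact (Nat.Prime 5) := ⟨by norm_num⟩
    have hc : Nat.card (𝐇 ⧸ Cfsg.pPrimeCore 2 𝐇) = 4960 := by
      rw [Nat.card_congr e.toEquiv, card_semiaffine,
        CfsgLib.SolvStruct.PlaneTransitive.card_ringAut' (p := 2) (n := 5) (hF5.trans rfl), hF5]
    have hidx : Nat.card (centralizer ({t} : Set G)) = 5 * Nat.card 𝐂 := by
      rw [hQ, hc, hn] at hN1
      rw [hC1, hn]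
      norm_num at hN1 ⊢
      omega
    obtain ⟨L, hLn, hle, hE, hr, hinj⟩ := h.exists_socle hO hnor (n := 5) (r := 5) Fact.out (by norm_num) hn
      (fun k h1 h2 h3 => by interval_cases k <;> simp_all [Nat.ModEq]) ht htT hidx
    obtain ⟨k, hk, -, ⟨eL⟩⟩ := hE.exists_iso_PSL
    obtain rfl : k = 5 := Nat.pow_right_injective le_rfl (hk.symm.trans (by
      rw [Sylow.coe_subtype, Nat.card_congr (subgroupOfEquivOfLe hle).toEquiv, hn]))
    let f : G →* MulAut (Matrix.ProjectiveSpecialLinearGroup (Fin 2) (GaloisField 2 5)) :=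
      (MulAut.congr eL).toMonoidHom.comp (MulAut.conjNormal (H := L))
    have hf : Function.Injective f := (MulAut.congr eL).injective.comp hinj
    haveI : Finite (MulAut (Matrix.ProjectiveSpecialLinearGroup (Fin 2) (GaloisField 2 5))) :=
      Finite.of_injective (fun φ => (φ : Matrix.ProjectiveSpecialLinearGroup (Fin 2) (GaloisField 2 5) →
        Matrix.ProjectiveSpecialLinearGroup (Fin 2) (GaloisField 2 5))) DFunLike.coe_injective
    refine ⟨MulEquiv.ofBijective f (hf.bijective_of_nat_card_le ?_)⟩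
    have hS : Nat.card (Matrix.SpecialLinearGroup (Fin 2) (GaloisField 2 5)) = 32736 := by
      rw [CfsgLib.Classical.card_SL_two, hF5]
      rfl
    have hL : Nat.card L = 32736 := by
      rw [Nat.card_congr eL.toEquiv, CfsgLib.Classical.card_PSL_two, hF5]
      rfl
    rw [CfsgLib.KnownB.PSLAut.card_aut_two, CfsgLib.Classical.card_PGL_eq_card_SL, hS,
      CfsgLib.SolvStruct.PlaneTransitive.card_ringAut' (p := 2) (n := 5) (hF5.trans rfl)]
    have h5 : 5 ∣ L.index := by
      have h1 : 5 ∣ Nat.card L * L.index := by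
        rw [card_mul_index]
        exact (hidx ▸ dvd_mul_right 5 _).trans (card_subgroup_dvd_card _)
      exact ((Fact.out : Nat.Prime 5).dvd_mul.1 h1).resolve_left hr
    calc 5 * 32736 = Nat.card L * 5 := by rw [hL]
      _ ≤ Nat.card L * L.index := Nat.mul_le_mul_left _ (Nat.le_of_dvd (Nat.pos_of_ne_zero
          FiniteIndex.index_ne_zero) h5)
      _ = Nat.card G := card_mul_index L

end Elem

theorem q8_sq : ∀ a : QuaternionGroup 2, a * a = 1 ∨ a * a = QuaternionGroup.a 2 := by decide +kernel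

theorem q8_invol : ∀ a : QuaternionGroup 2, a * a = 1 → a = 1 ∨ a = QuaternionGroup.a 2 := by
  decide +kernel

/-- The classification with trivial odd core. -/
theorem classify {G : Type u} [Group G] [Finite G] (hC : EqConj G) (hO : Cfsg.oddCore G = ⊥) :
    (IsCyclic G ∧ IsPGroup 2 G) ∨
    Nonempty (G ≃* Cfsg.affineGroup (GaloisField 2 3)) ∨
    Nonempty (G ≃* Cfsg.semiaffineGroup (GaloisField 2 3)) ∨
    Nonempty (G ≃* Cfsg.semiaffineGroup (GaloisField 2 5)) ∨
    Nonempty (G ≃* Matrix.ProjectiveSpecialLinearGroup (Fin 2) (GaloisField 2 3)) ∨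
    Nonempty (G ≃* MulAut (Matrix.ProjectiveSpecialLinearGroup (Fin 2) (GaloisField 2 5))) ∨
    Nonempty (G ≃* alternatingGroup (Fin 4)) ∨
    Nonempty (G ≃* alternatingGroup (Fin 5)) ∨
    Nonempty (G ≃* Matrix.SpecialLinearGroup (Fin 2) (ZMod 3)) ∨
    Nonempty (G ≃* Matrix.SpecialLinearGroup (Fin 2) (ZMod 5)) := by
  classical
  haveI : Fact (Nat.Prime 2) := ⟨Nat.prime_two⟩
  obtain ⟨T⟩ : Nonempty (Sylow 2 G) := inferInstance
  have hcyc : IsCyclic (T : Subgroup G) → IsCyclic G ∧ IsPGroup 2 G := by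
    intro hT
    haveI := hT
    by_cases he : 2 ∣ Nat.card G
    · set hle := IsCyclic.normalizer_le_centralizer (P := T) ((Nat.minFac_eq_two_iff _).2 he) hT
      have hcompl := MonoidHom.ker_transferSylow_isComplement' T hle
      set f := MonoidHom.transferSylow T hle
      have hodd : Odd (Nat.card f.ker) := by
        rw [← Nat.not_even_iff_odd, even_iff_two_dvd, ← hcompl.index_eq_card]
        exact T.not_dvd_index
      have hk : f.ker = ⊥ := by
        have := CfsgLib.Base.le_oddCore (N := f.ker) hodd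
        rwa [hO, le_bot_iff] at this
      have hinj : Function.Injective f := (MonoidHom.ker_eq_bot_iff f).1 hk
      exact ⟨isCyclic_of_injective f hinj, T.isPGroup'.of_injective f hinj⟩
    · have hodd : Odd (Nat.card G) := by rwa [← Nat.not_even_iff_odd, even_iff_two_dvd]
      rw [← CfsgLib.Base.oddCore_eq_top_iff, hO] at hodd
      haveI : Subsingleton (Subgroup G) := subsingleton_of_bot_eq_top hodd
      haveI : Subsingleton G := Subgroup.subsingleton_iff.1 inferInstance
      exact ⟨inferInstance, fun g => ⟨0, Subsingleton.elim _ _⟩⟩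
  rcases Cfsg.Agent.S4020.result hC.pConj T with hT | hT | ⟨⟨eQ⟩⟩
  · exact Or.inl (hcyc hT)
  · by_cases h4 : 4 ≤ Nat.card (T : Subgroup G)
    · have hE : Elem T := ⟨hC, h4, fun a ha => by rw [← pow_two]; exact hT.2 a ha⟩
      by_cases he4 : Nat.card (T : Subgroup G) = 4
      · rcases hE.four_case hO he4 with h | h
        · exact Or.inr (Or.inr (Or.inr (Or.inr (Or.inr (Or.inr (Or.inl h))))))
        · exact Or.inr (Or.inr (Or.inr (Or.inr (Or.inr (Or.inr (Or.inr (Or.inl h)))))))
      · rcases hE.big_case hO he4 with h | h | h | h | h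
        · exact Or.inr (Or.inl h)
        · exact Or.inr (Or.inr (Or.inl h))
        · exact Or.inr (Or.inr (Or.inr (Or.inl h)))
        · exact Or.inr (Or.inr (Or.inr (Or.inr (Or.inl h))))
        · exact Or.inr (Or.inr (Or.inr (Or.inr (Or.inr (Or.inl h)))))
    · refine Or.inl (hcyc ?_)
      obtain ⟨n, hn⟩ := IsPGroup.iff_card.1 T.isPGroup'
      rcases n with _ | _ | n
      · haveI : Subsingleton (T : Subgroup G) := (Nat.card_eq_one_iff_unique.1 (hn.trans (pow_zero 2))).1
        infer_instance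
      · exact isCyclic_of_prime_card (hn.trans (pow_one 2))
      · exfalso
        apply h4
        rw [hn, pow_succ, pow_succ]
        have := Nat.one_le_two_pow (n := n)
        omega
  -- quaternion
  obtain ⟨⟨z, hzT⟩, hze⟩ : ∃ z, z = eQ.symm (QuaternionGroup.a 2) := ⟨_, rfl⟩
  have hinv : ∀ a ∈ (T : Subgroup G), a * a = 1 → a = 1 ∨ a = z := by
    intro a ha h1
    have h2 : eQ ⟨a, ha⟩ * eQ ⟨a, ha⟩ = 1 := by
      rw [← map_mul, show (⟨a, ha⟩ * ⟨a, ha⟩ : (T : Subgroup G)) = 1 from Subtype.ext h1, map_one]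
    rcases q8_invol _ h2 with e | e
    · exact Or.inl (congrArg Subtype.val ((eQ.map_eq_one_iff).1 e))
    · refine Or.inr (congrArg Subtype.val (?_ : (⟨a, ha⟩ : (T : Subgroup G)) = ⟨z, hzT⟩))
      rw [hze, ← e, eQ.symm_apply_apply]
  have hsq : ∀ a ∈ (T : Subgroup G), a * a = 1 ∨ a * a = z := by
    intro a ha
    rcases q8_sq (eQ ⟨a, ha⟩) with e | e
    · rw [← map_mul] at e
      exact Or.inl (congrArg Subtype.val ((eQ.map_eq_one_iff).1 e))
    · refine Or.inr (congrArg Subtype.val (?_ : (⟨a, ha⟩ * ⟨a, ha⟩ : (T : Subgroup G)) = ⟨z, hzT⟩))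
      rw [hze, ← e, ← map_mul, eQ.symm_apply_apply]
  have hzo : orderOf z = 2 := by
    have h1 : orderOf (⟨z, hzT⟩ : (T : Subgroup G)) = 2 := by
      rw [hze, MulEquiv.orderOf_eq]
      exact orderOf_eq_prime (show (QuaternionGroup.a 2 : QuaternionGroup 2) ^ 2 = 1 by decide +kernel)
        (show (QuaternionGroup.a 2 : QuaternionGroup 2) ≠ 1 by decide +kernel)
    rwa [orderOf_mk] at h1
  have hz2 : z * z = 1 := invol_mul_self hzo
  have hzc : z ∈ center G := by
    refine CfsgLib.Fusion.mem_center_of_weaklyClosed hO T 1 z hzT (fun m g hm => ?_) (by rw [pow_one, pow_two, hz2])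
    rcases Nat.even_or_odd m with ⟨i, rfl⟩ | ⟨i, rfl⟩
    · rw [← two_mul, pow_mul, pow_two, hz2, one_pow, mul_one, mul_inv_cancel]
    · rw [pow_succ, pow_mul, pow_two, hz2, one_pow, one_mul] at hm ⊢
      refine (hinv _ hm ?_).resolve_left fun e => ?_
      · rw [← pow_two, conj_pow, pow_two, hz2, mul_one, mul_inv_cancel]
      · rw [conj_eq_one_iff] at e
        rw [e, orderOf_one] at hzo
        omega
  have huniq : ∀ a b : G, orderOf a = 2 → orderOf b = 2 → a = b := by
    suffices key : ∀ a : G, orderOf a = 2 → a = z from fun a b ha hb => (key a ha).trans (key b hb).symm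
    intro a ha
    obtain ⟨P, hP⟩ := (IsPGroup.of_card (p := 2) (n := 1)
      (show Nat.card (zpowers a) = 2 ^ 1 by rw [Nat.card_zpowers, ha, pow_one])).exists_le_sylow
    obtain ⟨g, hg⟩ := MulAction.exists_smul_eq G P T
    have h1 : g * a * g⁻¹ ∈ (T : Subgroup G) := hg ▸ ⟨a, hP (mem_zpowers a), rfl⟩
    have h2 := conj_invol g ha
    have h3 := (hinv _ h1 (invol_mul_self h2)).resolve_left fun e => by
      rw [e, orderOf_one] at h2
      omega
    rw [show a = g⁻¹ * (g * a * g⁻¹) * g by group, h3, mem_center_iff.1 hzc g⁻¹, inv_mul_cancel_right]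
  set Z := zpowers z with hZ
  have hZc : Z ≤ center G := zpowers_le.2 hzc
  haveI hZn : Z.Normal := ⟨fun w hw g => by
    rw [mem_center_iff.1 (hZc hw) g, mul_inv_cancel_right]; exact hw⟩
  have hZ2 : Nat.card Z = 2 := by rw [hZ, Nat.card_zpowers, hzo]
  have hO' : Cfsg.oddCore (G ⧸ Z) = ⊥ := by
    haveI : (Cfsg.oddCore (G ⧸ Z)).Normal := Cfsg.pPrimeCore_normal 2 _
    have hsurj := QuotientGroup.mk'_surjective Z
    have hle : (Cfsg.oddCore (G ⧸ Z)).comap (QuotientGroup.mk' Z) ≤ Z := by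
      refine CfsgLib.PLocal.le_of_central_of_pPrimeCore_eq_bot (p := 2) hO
        (QuotientGroup.le_comap_mk' Z _) ?_ (IsPGroup.of_card (n := 1) (hZ2.trans (pow_one 2).symm)) ?_
      · intro x _
        exact mem_centralizer_iff.2 fun y hy => (mem_center_iff.1 (hZc hy) x).symm
      · have hM0 : Z = (⊥ : Subgroup (G ⧸ Z)).comap (QuotientGroup.mk' Z) := by
          rw [MonoidHom.comap_bot, QuotientGroup.ker_mk']
        rw [show Z.relIndex ((Cfsg.oddCore (G ⧸ Z)).comap (QuotientGroup.mk' Z)) =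
            ((⊥ : Subgroup (G ⧸ Z)).comap (QuotientGroup.mk' Z)).relIndex
              ((Cfsg.oddCore (G ⧸ Z)).comap (QuotientGroup.mk' Z)) by rw [← hM0],
          Subgroup.relIndex_comap, Subgroup.map_comap_eq_self_of_surjective hsurj,
          Subgroup.relIndex_bot_left]
        exact CfsgLib.Base.pPrimeCore_coprime 2 _
    rw [eq_bot_iff]
    intro q hq
    obtain ⟨g, rfl⟩ := hsurj q
    exact mem_bot.2 ((QuotientGroup.eq_one_iff g).2 (hle hq))
  set T' := T.mapSurjective (QuotientGroup.mk'_surjective Z) with hT'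
  have hT'4 : Nat.card (T' : Subgroup (G ⧸ Z)) = 4 := by
    rw [hT', Sylow.coe_mapSurjective]
    have hle : Z ≤ (T : Subgroup G) := zpowers_le.2 hzT
    have h1 := CfsgLib.Base.card_comap_mk' Z ((T : Subgroup G).map (QuotientGroup.mk' Z))
    rw [Subgroup.comap_map_eq, QuotientGroup.ker_mk', sup_eq_left.2 hle, hZ2, Nat.card_congr eQ.toEquiv,
      show Nat.card (QuaternionGroup 2) = 8 by rw [Nat.card_eq_fintype_card, QuaternionGroup.card]] at h1
    omega
  have hE : Elem T' := ⟨hC.quot Z, hT'4.ge, fun a ha => by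
    change a ∈ (T' : Subgroup (G ⧸ Z)) at ha
    rw [hT', Sylow.coe_mapSurjective, mem_map] at ha
    obtain ⟨b, hb, rfl⟩ := ha
    rw [← map_mul, QuotientGroup.mk'_apply, QuotientGroup.eq_one_iff]
    rcases hsq b hb with e | e <;> rw [e]
    · exact one_mem _
    · exact mem_zpowers z⟩
  rcases hE.four_case hO' hT'4 with ⟨⟨e⟩⟩ | ⟨⟨e⟩⟩
  · refine Or.inr (Or.inr (Or.inr (Or.inr (Or.inr (Or.inr (Or.inr (Or.inr (Or.inl ?_))))))))
    refine equiv_SL_three (e.toMonoidHom.comp (QuotientGroup.mk' Z))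
      (e.surjective.comp (QuotientGroup.mk'_surjective Z)) ?_ huniq
    rw [show (e.toMonoidHom.comp (QuotientGroup.mk' Z)).ker = Z from
      (MonoidHom.ker_mulEquiv_comp (QuotientGroup.mk' Z) e).trans (QuotientGroup.ker_mk' Z), hZ2]
  · refine Or.inr (Or.inr (Or.inr (Or.inr (Or.inr (Or.inr (Or.inr (Or.inr (Or.inr ?_))))))))
    refine equiv_SL_five (e.toMonoidHom.comp (QuotientGroup.mk' Z))
      (e.surjective.comp (QuotientGroup.mk'_surjective Z)) ?_ huniq
    rw [show (e.toMonoidHom.comp (QuotientGroup.mk' Z)).ker = Z from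
      (MonoidHom.ker_mulEquiv_comp (QuotientGroup.mk' Z) e).trans (QuotientGroup.ker_mk' Z), hZ2]

end CfsgLib.Recog.EqOrdConj
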