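import Cfsg.Agent.Lib.Recog.EqOrdConj.Setup
import Cfsg.Agent.Lib.Coprime.Action

/-!
# Subgroups and quotients of odd order of the standing hypotheses
-/

set_option autoImplicit false
set_option linter.unusedSectionVars false
set_option linter.style.haveILetI false

namespace CfsgLib.Recog.EqOrdConj

open Subgroup CfsgLib.Involutions

variable {G : Type*} [Group G] [Finite G]

/-- An involution of a quotient of odd order lifts to an involution. -/
theorem exists_invol_lift (O : Subgroup G) [O.Normal] (hO : Odd (Nat.card O)) {s : G ⧸ O}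
    (hs : orderOf s = 2) : ∃ t : G, orderOf t = 2 ∧ QuotientGroup.mk' O t = s := by
  obtain ⟨g, rfl⟩ := QuotientGroup.mk'_surjective O s
  obtain ⟨k, m, hm, he⟩ := Nat.exists_eq_pow_mul_and_not_dvd (orderOf_pos g).ne' 2 (by norm_num)
  have hmap : QuotientGroup.mk' O (g ^ m) = QuotientGroup.mk' O g := by
    rw [map_pow, ← pow_mod_orderOf, hs, show m % 2 = 1 by omega, pow_one]
  refine ⟨g ^ m, orderOf_eq_prime (hp := ⟨Nat.prime_two⟩) ?_ fun e => ?_, hmap⟩
  · have hmem : (g ^ m) ^ 2 ∈ O := by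
      rw [← QuotientGroup.eq_one_iff]
      show QuotientGroup.mk' O ((g ^ m) ^ 2) = 1
      rw [map_pow, hmap, ← hs, pow_orderOf_eq_one]
    have hd : orderOf ((g ^ m) ^ 2) ∣ 2 ^ k := orderOf_dvd_of_pow_eq_one (by
      rw [← pow_mul, ← pow_mul, show m * (2 * 2 ^ k) = (2 ^ k * m) * 2 by ring, pow_mul, ← he,
        pow_orderOf_eq_one, one_pow])
    obtain ⟨j, -, hj⟩ := (Nat.dvd_prime_pow Nat.prime_two).1 hd
    rcases j with _ | j
    · rwa [pow_zero, orderOf_eq_one_iff] at hj
    · have := hO.of_dvd_nat (Subgroup.orderOf_dvd_natCard O hmem)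
      rw [hj, pow_succ, Nat.odd_mul] at this
      exact absurd this.2 (by decide)
  · rw [e, map_one] at hmap
    rw [← hmap, orderOf_one] at hs
    omega

namespace Hyp

variable {T : Sylow 2 G} (h : Hyp T)
include h

local notation "𝐂" => centralizer ((T : Subgroup G) : Set G)

/-- Every involution is conjugate to one in `T`. -/
theorem exists_conj_mem {u : G} (hu : orderOf u = 2) : ∃ g : G, g * u * g⁻¹ ∈ T := by
  haveI : Fact (Nat.Prime 2) := ⟨Nat.prime_two⟩
  obtain ⟨P, hP⟩ := (IsPGroup.of_card (p := 2) (n := 1)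
    (show Nat.card (zpowers u) = 2 ^ 1 by rw [Nat.card_zpowers, hu, pow_one])).exists_le_sylow
  obtain ⟨g, hg⟩ := MulAction.exists_smul_eq G P T
  exact ⟨g, hg ▸ ⟨u, hP (mem_zpowers u), rfl⟩⟩

/-- `T` centralises the subgroups of odd order it normalises. -/
theorem odd_le_C {O : Subgroup G} (hO : Odd (Nat.card O))
    (hn : (T : Subgroup G) ≤ normalizer (O : Set G)) : O ≤ 𝐂 := by
  haveI : Fact (Nat.Prime 2) := ⟨Nat.prime_two⟩
  have hcop : (Nat.card (T : Subgroup G)).Coprime (Nat.card O) := by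
    obtain ⟨k, hk⟩ := IsPGroup.iff_card.1 T.isPGroup'
    rw [hk]
    exact Nat.Coprime.pow_left _ (Nat.coprime_two_left.2 hO)
  haveI : IsMulCommutative (T : Subgroup G) :=
    ⟨⟨fun a b => Subtype.ext (h.comm_of_mem a.2 b.2).eq⟩⟩
  suffices hdvd : Nat.card O ∣ Nat.card ↥(O ⊓ 𝐂) by
    exact inf_eq_left.1 (Subgroup.eq_of_le_of_card_ge inf_le_left (Nat.le_of_dvd Nat.card_pos hdvd))
  refine (Nat.dvd_iff_prime_pow_dvd_dvd _ _).2 fun r k hr hrk => ?_
  rcases k with _ | k
  · simp
  haveI := Fact.mk hr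
  have hrd : r ∣ Nat.card O := (dvd_pow_self r k.succ_ne_zero).trans hrk
  have hr2 : r ≠ 2 := by rintro rfl; exact absurd (hO.of_dvd_nat hrd) (by decide)
  obtain ⟨P, hP⟩ := Coprime.exists_invariant_sylow (p := r) hn hcop
    (Or.inl (by haveI := IsPGroup.isNilpotent T.isPGroup'; infer_instance))
  set R := (P : Subgroup O).map O.subtype with hR
  have hRr : IsPGroup r R := P.isPGroup'.map _
  have hRn : ∀ a ∈ T, ∀ y ∈ R, a * y * a⁻¹ ∈ R := fun a ha y hy =>
    (mem_normalizer_iff.1 (hP ha) y).1 hy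
  have hRcard : Nat.card R = r ^ (Nat.card O).factorization r := by
    rw [hR, Subgroup.card_map_of_injective O.subtype_injective, P.card_eq_multiplicity]
  have hpow : r ^ (k + 1) ∣ Nat.card R := by
    rw [hRcard]
    exact pow_dvd_pow r ((hr.pow_dvd_iff_le_factorization Nat.card_pos.ne').1 hrk)
  obtain ⟨⟨y, hy⟩, hyo⟩ := exists_prime_orderOf_dvd_card' r ((dvd_pow_self r k.succ_ne_zero).trans hpow)
  rw [orderOf_mk] at hyo
  -- an element of order `r` centralised by an involution
  obtain ⟨t', c, ht', hc, htc⟩ : ∃ t' c : G, orderOf t' = 2 ∧ orderOf c = r ∧ Commute t' c := by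
    haveI := h.abelian r hr hr2 R hRr
    have hcomm : ∀ {a b : G}, a ∈ R → b ∈ R → a * b = b * a := fun {a b} ha hb =>
      congrArg Subtype.val ((inferInstance : IsMulCommutative R).is_comm.comm ⟨a, ha⟩ ⟨b, hb⟩)
    have key : ∀ a ∈ T, orderOf a = 2 → a * y * a⁻¹ ≠ y⁻¹ →
        ∃ c, orderOf c = r ∧ Commute a c := by
      intro a ha hao hne
      obtain ⟨v, hv⟩ : ∃ v, v = y * (a * y * a⁻¹) := ⟨_, rfl⟩
      have hvR : v ∈ R := hv ▸ mul_mem hy (hRn a ha y hy)
      have hv1 : v ≠ 1 := fun e => hne (eq_inv_of_mul_eq_one_right (hv.symm.trans e))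
      have hfix : a * v * a⁻¹ = v := by
        rw [hv, show a * (y * (a * y * a⁻¹)) * a⁻¹ = (a * y * a⁻¹) * ((a * a) * y * (a * a)⁻¹) by group,
          invol_mul_self hao, one_mul, inv_one, mul_one, hcomm (hRn a ha y hy) hy]
      obtain ⟨j, hj⟩ := IsPGroup.iff_orderOf.1 hRr ⟨v, hvR⟩
      rw [orderOf_mk] at hj
      have hjd : r ∣ orderOf v := by
        rcases j with _ | j
        · exact absurd (orderOf_eq_one_iff.1 (hj.trans (pow_zero r))) hv1
        · exact hj ▸ dvd_pow_self r j.succ_ne_zero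
      exact ⟨_, orderOf_pow_orderOf_div (orderOf_pos v).ne' hjd,
        Commute.pow_right (mul_inv_eq_iff_eq_mul.1 hfix) _⟩
    haveI : Nontrivial (T : Subgroup G) :=
      Finite.one_lt_card_iff_nontrivial.1 (by have := h.four; omega)
    obtain ⟨⟨a, ha⟩, ha1⟩ := exists_ne (1 : (T : Subgroup G))
    have hao := h.orderOf_eq ha fun e => ha1 (Subtype.ext e)
    obtain ⟨b, hb, hb1, hba⟩ : ∃ b ∈ T, b ≠ 1 ∧ b ≠ a := by
      by_contra hall
      push Not at hall
      have hle : (T : Subgroup G) ≤ zpowers a := fun b hb => by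
        rcases eq_or_ne b 1 with rfl | hb1
        · exact one_mem _
        · rw [hall b hb hb1]; exact mem_zpowers a
      have := Subgroup.card_le_of_le hle
      rw [Nat.card_zpowers, hao] at this
      have := h.four
      omega
    have hbo := h.orderOf_eq hb hb1
    by_cases h1 : a * y * a⁻¹ = y⁻¹
    swap
    · obtain ⟨c, hc⟩ := key a ha hao h1
      exact ⟨a, c, hao, hc⟩
    by_cases h2 : b * y * b⁻¹ = y⁻¹
    swap
    · obtain ⟨c, hc⟩ := key b hb hbo h2
      exact ⟨b, c, hbo, hc⟩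
    refine ⟨a * b, y, h.orderOf_eq (mul_mem ha hb) (fun e => hba ?_), hyo,
      mul_inv_eq_iff_eq_mul.1 ?_⟩
    · rw [eq_inv_of_mul_eq_one_right e, invol_inv hao]
    · calc a * b * y * (a * b)⁻¹ = a * (b * y * b⁻¹) * a⁻¹ := by group
        _ = (a * y * a⁻¹)⁻¹ := by rw [h2]; group
        _ = y := by rw [h1, inv_inv]
  have hle : R ≤ O ⊓ 𝐂 := fun w hw => ⟨Subgroup.map_subtype_le _ hw,
    mem_centralizer_iff.2 fun a ha => by
      rcases eq_or_ne a 1 with rfl | ha1
      · rw [one_mul, mul_one]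
      · exact (h.noInv.commute hr2 ht' hc htc hRr (h.orderOf_eq ha ha1) (hRn a ha) hw).eq⟩
  exact hpow.trans (Subgroup.card_dvd_of_le hle)

/-- Every involution centralises a normal subgroup of odd order. -/
theorem commute_normal {O : Subgroup G} [hOn : O.Normal] (hO : Odd (Nat.card O)) {u : G}
    (hu : orderOf u = 2) {o : G} (ho : o ∈ O) : Commute u o := by
  obtain ⟨g, hg⟩ := h.exists_conj_mem hu
  have h1 := mem_centralizer_iff.1 (h.odd_le_C hO (by rw [normalizer_eq_top]; exact le_top)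
    (hOn.conj_mem o ho g)) _ hg
  exact mul_left_cancel (a := g) (mul_right_cancel (b := g⁻¹) (by
    calc g * (u * o) * g⁻¹ = (g * u * g⁻¹) * (g * o * g⁻¹) := by group
      _ = (g * o * g⁻¹) * (g * u * g⁻¹) := h1
      _ = g * (o * u) * g⁻¹ := by group))

/-- A subgroup containing `T`, not inside its normaliser, has the hypotheses. -/
theorem subgroup {M : Subgroup G} (hle : (T : Subgroup G) ≤ M)
    (hM : ¬ M ≤ normalizer ((T : Subgroup G) : Set G)) : Hyp (T.subtype hle) where
  four := by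
    rw [Sylow.coe_subtype, Nat.card_congr (subgroupOfEquivOfLe hle).toEquiv]
    exact h.four
  elem a ha := Subtype.ext (h.elem (a : G) (by
    change a ∈ (T.subtype hle : Subgroup M) at ha
    rw [Sylow.coe_subtype] at ha
    exact mem_subgroupOf.1 ha))
  nn hn := hM (by
    rw [Sylow.coe_subtype, normal_subgroupOf_iff_le_normalizer hle] at hn
    exact hn)
  cent t ht htT := by
    have htT' : (t : G) ∈ T := by
      change t ∈ (T.subtype hle : Subgroup M) at htT
      rw [Sylow.coe_subtype] at htT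
      exact mem_subgroupOf.1 htT
    have ht' : orderOf (t : G) = 2 := by rw [orderOf_coe, ht]
    ext c
    constructor <;> intro hc
    · refine mem_centralizer_iff.2 fun a ha => Subtype.ext ?_
      rw [SetLike.mem_coe, Sylow.coe_subtype, mem_subgroupOf] at ha
      exact mem_centralizer_iff.1 (h.mem_C_of_commute ht' htT'
        ((mem_centralizer_singleton.1 hc : Commute t c).map M.subtype)) _ ha
    · exact mem_centralizer_singleton.2 (mem_centralizer_iff.1 hc t htT)
  noInv r hr hr2 t c x u ht hc htc hx hu hinv :=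
    h.noInv r hr hr2 (t : G) (c : G) (x : G) (u : G) (by rw [orderOf_coe, ht])
      (by rw [orderOf_coe, hc]) (htc.map M.subtype) (by rw [orderOf_coe, hx])
      (by rw [orderOf_coe, hu]) (congrArg Subtype.val hinv)
  abelian r hr hr2 P hP := by
    haveI := h.abelian r hr hr2 (P.map M.subtype) (hP.map _)
    refine ⟨⟨fun a b => ?_⟩⟩
    have h1 := congrArg Subtype.val ((inferInstance : IsMulCommutative (P.map M.subtype)).is_comm.comm
      ⟨_, mem_map_of_mem M.subtype a.2⟩ ⟨_, mem_map_of_mem M.subtype b.2⟩)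
    exact Subtype.ext (Subtype.ext h1)

/-- An inverted element of a quotient of odd order gives an inverted element. -/
theorem not_inverted_quot {O : Subgroup G} [O.Normal] {r : ℕ}
    (hr : r.Prime) (hr2 : r ≠ 2) {t c : G} (ht : orderOf t = 2) (hc : orderOf c = r)
    (htc : Commute t c) {u : G} {x : G ⧸ O} (hu : orderOf u = 2) (hx : orderOf x = r)
    (hinv : QuotientGroup.mk' O u * x * (QuotientGroup.mk' O u)⁻¹ = x⁻¹) : False := by
  haveI := Fact.mk hr
  obtain ⟨y, rfl⟩ := QuotientGroup.mk'_surjective O x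
  obtain ⟨w, hw⟩ : ∃ w, w = u * y * u⁻¹ * y⁻¹ := ⟨_, rfl⟩
  have hwinv : u * w * u⁻¹ = w⁻¹ := by
    rw [hw, invol_inv hu]
    calc u * (u * y * u * y⁻¹) * u = (u * u) * y * u * y⁻¹ * u := by group
      _ = (u * y * u * y⁻¹)⁻¹ := by
        rw [invol_mul_self hu, one_mul, mul_inv_rev, mul_inv_rev, mul_inv_rev, invol_inv hu, inv_inv]
        group
  have hmap : QuotientGroup.mk' O w = (QuotientGroup.mk' O y)⁻¹ ^ 2 := by
    rw [hw, map_mul, map_mul, map_mul, map_inv, map_inv, hinv, pow_two]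
  have hdvd : r ∣ orderOf w := by
    have h1 := orderOf_map_dvd (QuotientGroup.mk' O) w
    rwa [hmap, Nat.Coprime.orderOf_pow, orderOf_inv, hx] at h1
    rw [orderOf_inv, hx]
    exact (hr.coprime_iff_not_dvd.2 fun h2 => hr2 ((Nat.prime_dvd_prime_iff_eq hr Nat.prime_two).1 h2))
  exact h.noInv r hr hr2 t c _ u ht hc htc (orderOf_pow_orderOf_div (orderOf_pos w).ne' hdvd) hu
    (by rw [← conj_pow, hwinv, inv_pow])

/-- The quotient by a normal subgroup of odd order has the hypotheses. -/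
theorem quot (O : Subgroup G) [hOn : O.Normal] (hO : Odd (Nat.card O)) :
    Hyp (T.mapSurjective (QuotientGroup.mk'_surjective O)) where
  four := by
    rw [Sylow.coe_mapSurjective]
    refine le_of_le_of_eq h.four (Nat.card_congr (Equiv.ofBijective
      ((QuotientGroup.mk' O).subgroupMap (T : Subgroup G)) ⟨?_, MonoidHom.subgroupMap_surjective _ _⟩))
    refine (injective_iff_map_eq_one _).2 fun a ha => Subtype.ext ?_
    have ha' : (a : G) ∈ O := (QuotientGroup.eq_one_iff _).1 (congrArg Subtype.val ha)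
    by_contra hne
    have h2 := hO.of_dvd_nat (Subgroup.orderOf_dvd_natCard O ha')
    rw [h.orderOf_eq a.2 hne] at h2
    exact absurd h2 (by decide)
  elem a ha := by
    change a ∈ (T.mapSurjective (QuotientGroup.mk'_surjective O) : Subgroup (G ⧸ O)) at ha
    rw [Sylow.coe_mapSurjective, mem_map] at ha
    obtain ⟨b, hb, rfl⟩ := ha
    rw [← map_mul, h.elem b hb, map_one]
  nn hn := by
    refine h.nn ⟨fun a ha g => ?_⟩
    rcases eq_or_ne a 1 with rfl | ha1
    · simp
    have hao := h.orderOf_eq ha ha1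
    obtain ⟨b, hb, e⟩ : ∃ b ∈ T, QuotientGroup.mk' O b = QuotientGroup.mk' O (g * a * g⁻¹) := by
      have h1 := hn.conj_mem _ (show QuotientGroup.mk' O a ∈
        (T.mapSurjective (QuotientGroup.mk'_surjective O) : Subgroup (G ⧸ O)) by
          rw [Sylow.coe_mapSurjective]; exact mem_map_of_mem _ ha) (QuotientGroup.mk' O g)
      rw [Sylow.coe_mapSurjective, mem_map] at h1
      obtain ⟨b, hb, e⟩ := h1
      exact ⟨b, hb, by rw [e, map_mul, map_mul, map_inv]⟩
    have hoO : b⁻¹ * (g * a * g⁻¹) ∈ O := QuotientGroup.eq.1 e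
    have hgo : orderOf (g * a * g⁻¹) = 2 := conj_invol g hao
    rcases eq_or_ne b 1 with rfl | hb1
    · rw [inv_one, one_mul] at hoO
      have h2 := hO.of_dvd_nat (Subgroup.orderOf_dvd_natCard O hoO)
      rw [hgo] at h2
      exact absurd h2 (by decide)
    have hbo := h.orderOf_eq hb hb1
    have h2 := (h.commute_normal hO hbo hoO)
    have hz : (b⁻¹ * (g * a * g⁻¹)) ^ 2 = 1 := by
      have h3 : (g * a * g⁻¹) ^ 2 = b ^ 2 * (b⁻¹ * (g * a * g⁻¹)) ^ 2 := by
        rw [← h2.mul_pow, mul_inv_cancel_left]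
      rwa [show (g * a * g⁻¹) ^ 2 = 1 by rw [← hgo, pow_orderOf_eq_one],
        show b ^ 2 = 1 by rw [← hbo, pow_orderOf_eq_one], one_mul, eq_comm] at h3
    have h4 : b⁻¹ * (g * a * g⁻¹) = 1 := eq_one_of_eq_inv_of_odd
      (eq_inv_of_mul_eq_one_left (by rw [← pow_two, hz]))
      (hO.of_dvd_nat (Subgroup.orderOf_dvd_natCard O hoO))
    rwa [← inv_mul_eq_one.1 h4]
  cent s hs hsT := by
    change s ∈ (T.mapSurjective (QuotientGroup.mk'_surjective O) : Subgroup (G ⧸ O)) at hsT
    rw [Sylow.coe_mapSurjective] at *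
    ext c
    constructor <;> intro hc
    · refine mem_centralizer_iff.2 ?_
      rintro _ ⟨a, ha, rfl⟩
      obtain ⟨b, hb, rfl⟩ := mem_map.1 hsT
      have hb1 : b ≠ 1 := fun e => by rw [e, map_one, orderOf_one] at hs; omega
      obtain ⟨g, rfl⟩ := QuotientGroup.mk'_surjective O c
      have hbo := h.orderOf_eq hb hb1
      obtain ⟨o, ho, he⟩ : ∃ o ∈ O, g * b * g⁻¹ = b * o := by
        refine ⟨b⁻¹ * (g * b * g⁻¹), QuotientGroup.eq.1 ?_, by group⟩
        show QuotientGroup.mk' O b = QuotientGroup.mk' O (g * b * g⁻¹)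
        rw [map_mul, map_mul, map_inv, ← (mem_centralizer_singleton.1 hc :
          Commute (QuotientGroup.mk' O b) (QuotientGroup.mk' O g)).eq, mul_inv_cancel_right]
      have h3 : (g * b * g⁻¹) ^ 2 = b ^ 2 * o ^ 2 := by
        rw [he, (h.commute_normal hO hbo ho).mul_pow]
      rw [show (g * b * g⁻¹) ^ 2 = 1 by rw [conj_pow, ← hbo, pow_orderOf_eq_one, mul_one, mul_inv_cancel],
        show b ^ 2 = 1 by rw [← hbo, pow_orderOf_eq_one], one_mul, eq_comm] at h3
      have ho1 : o = 1 := eq_one_of_eq_inv_of_odd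
        (eq_inv_of_mul_eq_one_left (by rw [← pow_two, h3]))
        (hO.of_dvd_nat (Subgroup.orderOf_dvd_natCard O ho))
      rw [ho1, mul_one] at he
      have hg : g ∈ 𝐂 := h.mem_C_of_commute hbo hb (show Commute b g from
        (mul_inv_eq_iff_eq_mul.1 he).symm)
      rw [← map_mul, ← map_mul, mem_centralizer_iff.1 hg a ha]
    · exact mem_centralizer_singleton.2 (mem_centralizer_iff.1 hc s hsT)
  noInv r hr hr2 s c x v hs hc hsc hx hv hinv := by
    obtain ⟨u, hu, rfl⟩ := exists_invol_lift O hO hv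
    obtain ⟨t, ht, rfl⟩ := exists_invol_lift O hO hs
    obtain ⟨g, rfl⟩ := QuotientGroup.mk'_surjective O c
    obtain ⟨o, ho, he⟩ : ∃ o ∈ O, g * t * g⁻¹ = t * o := by
      refine ⟨t⁻¹ * (g * t * g⁻¹), QuotientGroup.eq.1 ?_, by group⟩
      show QuotientGroup.mk' O t = QuotientGroup.mk' O (g * t * g⁻¹)
      rw [map_mul, map_mul, map_inv, ← hsc.eq, mul_inv_cancel_right]
    have h3 : (g * t * g⁻¹) ^ 2 = t ^ 2 * o ^ 2 := by
      rw [he, (h.commute_normal hO ht ho).mul_pow]
    rw [show (g * t * g⁻¹) ^ 2 = 1 by rw [conj_pow, ← ht, pow_orderOf_eq_one, mul_one, mul_inv_cancel],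
      show t ^ 2 = 1 by rw [← ht, pow_orderOf_eq_one], one_mul, eq_comm] at h3
    have ho1 : o = 1 := eq_one_of_eq_inv_of_odd
      (eq_inv_of_mul_eq_one_left (by rw [← pow_two, h3]))
      (hO.of_dvd_nat (Subgroup.orderOf_dvd_natCard O ho))
    rw [ho1, mul_one] at he
    have hrd : r ∣ orderOf g := hc ▸ orderOf_map_dvd _ g
    exact h.not_inverted_quot hr hr2 ht (orderOf_pow_orderOf_div (orderOf_pos g).ne' hrd)
      ((show Commute t g from (mul_inv_eq_iff_eq_mul.1 he).symm).pow_right _) hu hx hinv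
  abelian r hr hr2 P hP := by
    haveI := Fact.mk hr
    obtain ⟨Q, hQ⟩ := hP.exists_le_sylow
    obtain ⟨R, hR⟩ := Sylow.mapSurjective_surjective (QuotientGroup.mk'_surjective O) r Q
    haveI := h.abelian r hr hr2 R R.isPGroup'
    refine ⟨⟨fun a b => Subtype.ext ?_⟩⟩
    have ha := hQ a.2
    have hb := hQ b.2
    rw [← hR, Sylow.coe_mapSurjective, mem_map] at ha hb
    obtain ⟨x, hx, hxa⟩ := ha
    obtain ⟨y, hy, hyb⟩ := hb
    show (a : G ⧸ O) * b = b * a
    rw [← hxa, ← hyb, ← map_mul, ← map_mul]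
    exact congrArg _ (congrArg Subtype.val
      ((inferInstance : IsMulCommutative (R : Subgroup G)).is_comm.comm ⟨x, hx⟩ ⟨y, hy⟩))

end Hyp

end CfsgLib.Recog.EqOrdConj
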