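import Cfsg.Agent.Lib.CharsMore.AbCent.Core

/-!
# An elementary Sylow 2-subgroup with `C(t) = C(T)`: pairs of cosets

`T` is an elementary abelian non-normal Sylow `2`-subgroup with `C(t) = C(T)` for each of its
involutions `t`, and no element of prime order `r` is inverted by an involution if some element of
order `r` is centralised by one. The elements of `C(T)` fixing a second coset of `N(T)` then
commute with the involutions carrying `N(T)` to it.
-/

set_option autoImplicit false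
set_option linter.unusedSectionVars false
set_option linter.style.haveILetI false

namespace CfsgLib.Recog.EqOrdConj

open Subgroup MulAction CfsgLib.Involutions
open CfsgLib.CharsMore.AbCent.Setup (carrier_back carrier_fixes carrier_inverted)

variable {G : Type*} [Group G] [Finite G]

/-- No element of prime order `r` is inverted by an involution if some element of order `r` is
centralised by one. -/
def NoInv (G : Type*) [Group G] : Prop :=
  ∀ r : ℕ, r.Prime → r ≠ 2 → ∀ t c x u : G, orderOf t = 2 → orderOf c = r → Commute t c →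
    orderOf x = r → orderOf u = 2 → u * x * u⁻¹ = x⁻¹ → False

/-- An involution centralises the odd `r`-groups it normalises, if `r` divides the order of an
involution centraliser. -/
theorem NoInv.commute (hN : NoInv G) {r : ℕ} [hr : Fact r.Prime] (hr2 : r ≠ 2) {t c : G}
    (ht : orderOf t = 2) (hc : orderOf c = r) (htc : Commute t c) {P : Subgroup G} (hP : IsPGroup r P)
    {u : G} (hu : orderOf u = 2) (hn : ∀ y ∈ P, u * y * u⁻¹ ∈ P) {y : G} (hy : y ∈ P) :
    Commute u y := by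
  by_contra hne
  obtain ⟨w, hw⟩ : ∃ w, w = u * y * u⁻¹ * y⁻¹ := ⟨_, rfl⟩
  have hwP : w ∈ P := hw ▸ mul_mem (hn y hy) (inv_mem hy)
  have hw1 : w ≠ 1 := fun e => hne (mul_inv_eq_iff_eq_mul.1 (mul_inv_eq_one.1 (hw.symm.trans e)))
  have hinv : u * w * u⁻¹ = w⁻¹ := by
    rw [hw, invol_inv hu]
    calc u * (u * y * u * y⁻¹) * u = (u * u) * y * u * y⁻¹ * u := by group
      _ = (u * y * u * y⁻¹)⁻¹ := by
        rw [invol_mul_self hu, one_mul, mul_inv_rev, mul_inv_rev, mul_inv_rev, invol_inv hu, inv_inv]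
        group
  obtain ⟨k, hk⟩ := IsPGroup.iff_orderOf.1 hP ⟨w, hwP⟩
  rw [orderOf_mk] at hk
  have hdvd : r ∣ orderOf w := by
    rcases k with _ | k
    · exact absurd (orderOf_eq_one_iff.1 (hk.trans (pow_zero r))) hw1
    · exact hk ▸ dvd_pow_self r k.succ_ne_zero
  refine hN r hr.out hr2 t c (w ^ (orderOf w / r)) u ht hc htc
    (orderOf_pow_orderOf_div (orderOf_pos w).ne' hdvd) hu ?_
  rw [← conj_pow, hinv, inv_pow]

/-- An involution normalising a subgroup of odd order normalises one of its Sylow subgroups. -/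
theorem exists_invariant_sylow {D : Subgroup G} (hD : Odd (Nat.card D)) {u : G}
    (hu : orderOf u = 2) (hn : ∀ d ∈ D, u * d * u⁻¹ ∈ D) (r : ℕ) [hr : Fact r.Prime] :
    ∃ P : Sylow r D, ∀ y ∈ (P : Subgroup D).map D.subtype,
      u * y * u⁻¹ ∈ (P : Subgroup D).map D.subtype := by
  classical
  haveI : Fact (Nat.Prime 2) := ⟨Nat.prime_two⟩
  let φ : MulAut D :=
    { toFun := fun d => ⟨u * d * u⁻¹, hn d d.2⟩
      invFun := fun d => ⟨u * d * u⁻¹, hn d d.2⟩
      left_inv := fun d => Subtype.ext (show u * (u * d * u⁻¹) * u⁻¹ = (d : G) by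
        rw [invol_inv hu, show u * (u * (d : G) * u) * u = (u * u) * d * (u * u) by group,
          invol_mul_self hu, one_mul, mul_one])
      right_inv := fun d => Subtype.ext (show u * (u * d * u⁻¹) * u⁻¹ = (d : G) by
        rw [invol_inv hu, show u * (u * (d : G) * u) * u = (u * u) * d * (u * u) by group,
          invol_mul_self hu, one_mul, mul_one])
      map_mul' := fun a b => Subtype.ext (show u * ((a : G) * b) * u⁻¹ = _ by
        show u * ((a : G) * b) * u⁻¹ = (u * a * u⁻¹) * (u * b * u⁻¹)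
        group) }
  have hφ : φ * φ = 1 := MulEquiv.ext fun d => Subtype.ext (show u * (u * d * u⁻¹) * u⁻¹ = (d : G) by
    rw [invol_inv hu, show u * (u * (d : G) * u) * u = (u * u) * d * (u * u) by group,
      invol_mul_self hu, one_mul, mul_one])
  let σ : Equiv.Perm (Sylow r D) := MulAction.toPerm φ
  have hσ : σ ^ 2 ^ 1 = 1 := Equiv.ext fun P => by
    show σ (σ P) = P
    show φ • φ • P = P
    rw [← mul_smul, hφ, one_smul]
  haveI := Fintype.ofFinite (Sylow r D)
  obtain ⟨P, hP⟩ : ∃ P, σ P = P := by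
    refine Equiv.Perm.exists_fixed_point_of_prime (p := 2) (n := 1) ?_ hσ
    rw [← Nat.card_eq_fintype_card, ← even_iff_two_dvd, Nat.not_even_iff_odd]
    exact hD.of_dvd_nat (Sylow.card_dvd_index (default : Sylow r D) |>.trans (Subgroup.index_dvd_card _))
  refine ⟨P, ?_⟩
  rintro _ ⟨y, hy, rfl⟩
  refine ⟨φ y, ?_, rfl⟩
  have h1 : φ • P = P := hP
  rw [← h1]
  exact Subgroup.smul_mem_pointwise_smul y φ _ hy

/-- The standing hypotheses. -/
structure Hyp (T : Sylow 2 G) : Prop where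
  four : 4 ≤ Nat.card (T : Subgroup G)
  elem : ∀ a ∈ T, a * a = 1
  nn : ¬ (T : Subgroup G).Normal
  cent : ∀ t : G, orderOf t = 2 → t ∈ T →
    centralizer ({t} : Set G) = centralizer ((T : Subgroup G) : Set G)
  noInv : NoInv G
  abelian : ∀ r : ℕ, r.Prime → r ≠ 2 → ∀ P : Subgroup G, IsPGroup r P → IsMulCommutative P

namespace Hyp

variable {T : Sylow 2 G} (h : Hyp T)
include h

local notation "𝐇" => normalizer ((T : Subgroup G) : Set G)
local notation "𝐂" => centralizer ((T : Subgroup G) : Set G)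
local notation "x₀" => (QuotientGroup.mk (1 : G) : G ⧸ 𝐇)

theorem comm_of_mem {a b : G} (ha : a ∈ T) (hb : b ∈ T) : Commute a b := by
  have hab := h.elem _ (mul_mem ha hb)
  show a * b = b * a
  calc a * b = (b * b) * (a * b) * (a * a) := by rw [h.elem a ha, h.elem b hb, one_mul, mul_one]
    _ = b * ((b * a) * (b * a)) * a := by group
    _ = b * a := by rw [h.elem _ (mul_mem hb ha), mul_one]

theorem orderOf_eq {a : G} (ha : a ∈ T) (ha1 : a ≠ 1) : orderOf a = 2 :=
  orderOf_eq_prime (by rw [pow_two, h.elem a ha]) ha1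

theorem exists_invol : ∃ t ∈ T, orderOf t = 2 := by
  haveI : Nontrivial (T : Subgroup G) :=
    Finite.one_lt_card_iff_nontrivial.1 (by have := h.four; omega)
  obtain ⟨⟨t, ht⟩, ht1⟩ := exists_ne (1 : (T : Subgroup G))
  exact ⟨t, ht, h.orderOf_eq ht fun e => ht1 (Subtype.ext e)⟩

theorem le_C : (T : Subgroup G) ≤ 𝐂 := fun a ha =>
  mem_centralizer_iff.2 fun b hb => (h.comm_of_mem hb ha).eq

theorem C_le_H : 𝐂 ≤ 𝐇 := centralizer_le_normalizer _

theorem mem_C_of_commute {t x : G} (ht : orderOf t = 2) (htT : t ∈ T) (hc : Commute t x) :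
    x ∈ 𝐂 :=
  h.cent t ht htT ▸ mem_centralizer_singleton.2 hc

theorem two_elt_mem {s : G} (hs : ∃ k, orderOf s = 2 ^ k) (hsH : s ∈ 𝐇) : s ∈ T := by
  obtain ⟨k, hk⟩ := hs
  have hp : IsPGroup 2 (zpowers s) := by
    rw [IsPGroup.iff_card]; exact ⟨k, by rw [Nat.card_zpowers, hk]⟩
  have := T.is_maximal' (IsPGroup.to_sup_of_normal_left' T.isPGroup' hp (zpowers_le.2 hsH))
    le_sup_left
  exact this.le ((le_sup_right : zpowers s ≤ (T : Subgroup G) ⊔ zpowers s) (mem_zpowers s))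

theorem invol_mem {s : G} (hs : orderOf s = 2) (hsH : s ∈ 𝐇) : s ∈ T :=
  h.two_elt_mem ⟨1, by rw [hs, pow_one]⟩ hsH

theorem conj_mem_C {g c : G} (hg : g ∈ 𝐇) (hc : c ∈ 𝐂) : g * c * g⁻¹ ∈ 𝐂 := by
  refine mem_centralizer_iff.2 fun a ha => ?_
  have h1 := mem_centralizer_iff.1 hc _
    (show g⁻¹ * a * g ∈ (T : Subgroup G) by
      have e := (mem_normalizer_iff.1 (inv_mem hg) a).1 ha
      rwa [inv_inv] at e)
  calc a * (g * c * g⁻¹) = g * (g⁻¹ * a * g * c) * g⁻¹ := by group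
    _ = g * c * g⁻¹ * a := by rw [h1]; group

theorem mem_H_of_conj {t g : G} (ht : orderOf t = 2) (htT : t ∈ T) (hg : g * t * g⁻¹ ∈ T) :
    g ∈ 𝐇 := by
  rw [mem_normalizer_iff_map_conj_eq]
  refine Subgroup.eq_of_le_of_card_ge ?_
    (Nat.card_congr (equivMapOfInjective _ _ (MulAut.conj g).injective).toEquiv).le
  rintro _ ⟨a, ha, rfl⟩
  have hgt : orderOf (g * t * g⁻¹) = 2 := conj_invol g ht
  have hc : g * a * g⁻¹ ∈ 𝐂 :=
    h.mem_C_of_commute hgt hg ((h.comm_of_mem htT ha).map (MulAut.conj g))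
  refine h.two_elt_mem ?_ (h.C_le_H hc)
  obtain ⟨k, hk⟩ := IsPGroup.iff_orderOf.1 T.isPGroup' ⟨a, ha⟩
  exact ⟨k, (orderOf_conj_eq g a).trans (by rw [← hk, orderOf_mk])⟩

theorem stronglyEmbedded : Cfsg.IsStronglyEmbedded 𝐇 := by
  refine ⟨fun ht => h.nn (normalizer_eq_top_iff.1 ht), ?_, fun g hg => ?_⟩
  · obtain ⟨z, hzT, hzo⟩ := h.exists_invol
    exact (even_card_iff _).2 ⟨z, le_normalizer hzT, hzo⟩
  · rw [odd_card_iff]
    intro s hs hso
    apply hg
    have ho : orderOf (g⁻¹ * s * g) = 2 := by simpa [hso] using orderOf_conj_eq g⁻¹ s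
    refine h.mem_H_of_conj ho (h.invol_mem ho (mem_conj_map.1 hs.2)) ?_
    rw [show g * (g⁻¹ * s * g) * g⁻¹ = s by group]
    exact h.invol_mem hso hs.1

theorem mem_H_iff {g : G} : g ∈ 𝐇 ↔ g • x₀ = x₀ := by
  rw [SE.smul_mk_eq_iff, inv_one, one_mul, mul_one]

theorem card_invol_H : Nat.card {s : G // orderOf s = 2 ∧ s ∈ 𝐇} + 1 = Nat.card (T : Subgroup G) := by
  classical
  have h1 : Nat.card {a : (T : Subgroup G) // a = 1} + Nat.card {a : (T : Subgroup G) // a ≠ 1} =
      Nat.card (T : Subgroup G) := by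
    rw [← Nat.card_sum]; exact Nat.card_congr (Equiv.sumCompl _)
  rw [Nat.card_unique] at h1
  rw [← h1, add_comm 1]
  congr 1
  exact Nat.card_congr
    { toFun := fun s => ⟨⟨s, h.invol_mem s.2.1 s.2.2⟩, fun e => by
        have h2 := s.2.1
        rw [show (s : G) = 1 from congrArg Subtype.val e, orderOf_one] at h2
        omega⟩
      invFun := fun a => ⟨a.1, h.orderOf_eq a.1.2 fun e => a.2 (Subtype.ext e), le_normalizer a.1.2⟩
      left_inv := fun _ => rfl
      right_inv := fun _ => rfl }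

theorem two_le_invol : 2 ≤ Nat.card {s : G // orderOf s = 2 ∧ s ∈ 𝐇} := by
  have := h.card_invol_H
  have := h.four
  omega

theorem card_carriers {z : G ⧸ 𝐇} (hz : x₀ ≠ z) :
    Nat.card {i : G // orderOf i = 2 ∧ i • x₀ = z} =
      Nat.card {s : G // orderOf s = 2 ∧ s ∈ 𝐇} := by
  obtain ⟨t, htT, ht⟩ := h.exists_invol
  rw [SE.card_carry h.stronglyEmbedded ht hz (h.mem_H_iff.1 (le_normalizer htT)), SE.card_fixing]

theorem exists_carrier {z : G ⧸ 𝐇} (hz : x₀ ≠ z) : ∃ u : G, orderOf u = 2 ∧ u • x₀ = z := by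
  have h1 : 0 < Nat.card {i : G // orderOf i = 2 ∧ i • x₀ = z} := by
    rw [h.card_carriers hz]; have := h.two_le_invol; omega
  obtain ⟨⟨u, hu⟩⟩ := (Nat.card_pos_iff.1 h1).1
  exact ⟨u, hu⟩

theorem odd_of_fixed {d : G} {z : G ⧸ 𝐇} (hz : x₀ ≠ z) (h0 : d • x₀ = x₀) (h1 : d • z = z) :
    Odd (orderOf d) :=
  SE.odd_of_two_fixed h.stronglyEmbedded hz h0 h1

/-- No involution inverts a nonidentity element of odd order of `C`. -/
theorem not_inverted {a u : G} (ha : a ∈ 𝐂) (hao : Odd (orderOf a)) (hu : orderOf u = 2)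
    (hinv : u * a * u⁻¹ = a⁻¹) : a = 1 := by
  by_contra ha1
  obtain ⟨r, hr, hrd⟩ := Nat.exists_prime_and_dvd (mt orderOf_eq_one_iff.1 ha1)
  have hr2 : r ≠ 2 := by rintro rfl; exact absurd (hao.of_dvd_nat hrd) (by decide)
  obtain ⟨t, htT, ht⟩ := h.exists_invol
  have ho := orderOf_pow_orderOf_div (orderOf_pos a).ne' hrd
  exact h.noInv r hr hr2 t _ _ u ht ho
    (Commute.pow_right (mem_centralizer_iff.1 ha t htT) _) ho hu
    (by rw [← conj_pow, hinv, inv_pow])

/-- The products `i * u` represent `H/C`. -/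
theorem exists_factor {g : G} (hg : g ∈ 𝐇) {z : G ⧸ 𝐇} (hz : x₀ ≠ z) {u : G} (hu : orderOf u = 2)
    (huz : u • x₀ = z) : ∃ i, orderOf i = 2 ∧ i • x₀ = z ∧ (i * u)⁻¹ * g ∈ 𝐂 := by
  obtain ⟨t, htT, ht⟩ := h.exists_invol
  have htH : t ∈ 𝐇 := le_normalizer htT
  let f : {i : G // orderOf i = 2 ∧ i • x₀ = z} → {s : G // orderOf s = 2 ∧ s ∈ 𝐇} := fun i =>
    ⟨(i * u) * t * ((i : G) * u)⁻¹, conj_invol _ ht,
      mul_mem (mul_mem (h.mem_H_iff.2 (carrier_fixes i.2.1 hu i.2.2 huz).1) htH)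
        (inv_mem (h.mem_H_iff.2 (carrier_fixes i.2.1 hu i.2.2 huz).1))⟩
  have hfC : ∀ x y : G, x * t * x⁻¹ = y * t * y⁻¹ → x⁻¹ * y ∈ 𝐂 := fun x y e => by
    refine h.mem_C_of_commute ht htT ?_
    show t * (x⁻¹ * y) = x⁻¹ * y * t
    calc t * (x⁻¹ * y) = x⁻¹ * (x * t * x⁻¹) * y := by group
      _ = x⁻¹ * y * t := by rw [e]; group
  have hf : Function.Injective f := by
    rintro ⟨i, hi, hiz⟩ ⟨j, hj, hjz⟩ e
    have hc : (i * u)⁻¹ * (j * u) ∈ 𝐂 := hfC _ _ (congrArg Subtype.val e)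
    have hfi := carrier_fixes hi hu hiz huz
    have hfj := carrier_fixes hj hu hjz huz
    have hodd := h.odd_of_fixed (d := (i * u)⁻¹ * (j * u)) hz
      (by rw [mul_smul, hfj.1, inv_smul_eq_iff, hfi.1]) (by rw [mul_smul, hfj.2, inv_smul_eq_iff, hfi.2])
    have hw : orderOf (u * i * u⁻¹) = 2 := conj_invol u hi
    have h1 := h.not_inverted hc hodd hw (by
      simp only [mul_inv_rev, invol_inv hi, invol_inv hu, invol_inv hj, mul_assoc]
      simp only [← mul_assoc u u, invol_mul_self hu, one_mul, ← mul_assoc i i, invol_mul_self hi])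
    exact Subtype.ext (mul_right_cancel (inv_mul_eq_one.1 h1))
  obtain ⟨⟨i, hi, hiz⟩, he⟩ := ((Nat.bijective_iff_injective_and_card f).2
    ⟨hf, h.card_carriers hz⟩).2 ⟨g * t * g⁻¹, conj_invol g ht, mul_mem (mul_mem hg htH) (inv_mem hg)⟩
  exact ⟨i, hi, hiz, hfC _ _ (congrArg Subtype.val he)⟩

/-- The elements of `C` fixing a second coset commute with the carriers to it. -/
theorem commute_carrier {z : G ⧸ 𝐇} (hz : x₀ ≠ z) {u : G} (hu : orderOf u = 2) (huz : u • x₀ = z)
    {y : G} (hyC : y ∈ 𝐂) (hyz : y • z = z) : Commute u y := by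
  classical
  set D := stabilizer G x₀ ⊓ stabilizer G z with hD
  set Du := D ⊓ centralizer ({u} : Set G) with hDu
  set DC := D ⊓ 𝐂 with hDC
  have huzb := carrier_back hu huz
  have hDodd : Odd (Nat.card D) := by
    rw [odd_card_iff]
    intro s hs hso
    have := h.odd_of_fixed hz hs.1 hs.2
    rw [hso] at this
    exact absurd this (by decide)
  have hDn : ∀ d ∈ D, u * d * u⁻¹ ∈ D := fun d hd => ⟨by
      show (u * d * u⁻¹) • x₀ = x₀
      rw [invol_inv hu, mul_smul, mul_smul, huz, show d • z = z from hd.2, huzb], by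
      show (u * d * u⁻¹) • z = z
      rw [invol_inv hu, mul_smul, mul_smul, huzb, show d • x₀ = x₀ from hd.1, huz]⟩
  -- `|D_u| ≤ |D ⊓ C|`
  let Car := {i : G // orderOf i = 2 ∧ i • x₀ = z}
  have hCar : 0 < Nat.card Car := by
    haveI : Nonempty Car := ⟨⟨u, hu, huz⟩⟩
    exact Nat.card_pos
  have h1 : Nat.card Du * Nat.card Car ≤ Nat.card D := by
    rw [← Nat.card_prod]
    refine Nat.card_le_card_of_injective (fun p : Du × Car => (⟨(p.1 : G) * (p.2 * u),
      mul_mem p.1.2.1 ⟨(carrier_fixes p.2.2.1 hu p.2.2.2 huz).1,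
        (carrier_fixes p.2.2.1 hu p.2.2.2 huz).2⟩⟩ : D)) ?_
    rintro ⟨⟨f, hf⟩, ⟨i, hi, hiz⟩⟩ ⟨⟨f', hf'⟩, ⟨j, hj, hjz⟩⟩ e
    have e' : f * (i * u) = f' * (j * u) := congrArg Subtype.val e
    obtain ⟨g, hg⟩ : ∃ g, g = f'⁻¹ * f := ⟨_, rfl⟩
    have hgm : g ∈ Du := hg ▸ mul_mem (inv_mem hf') hf
    have hgx : g * (i * u) = j * u := by rw [hg, mul_assoc, e', inv_mul_cancel_left]
    have hgu : u * g * u⁻¹ = g := by
      rw [(mem_centralizer_singleton.1 hgm.2 : Commute u g).eq, mul_inv_cancel_right]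
    have hxg : (i * u) * g * (i * u)⁻¹ = g⁻¹ := by
      have h5 : g * (i * u)⁻¹ = (g * (i * u))⁻¹ := by
        calc g * (i * u)⁻¹ = (u * g * u⁻¹) * (u * (i * u) * u⁻¹) := by
              rw [hgu, carrier_inverted hi hu]
          _ = u * (g * (i * u)) * u⁻¹ := by group
          _ = (g * (i * u))⁻¹ := by rw [hgx, carrier_inverted hj hu]
      calc (i * u) * g * (i * u)⁻¹ = (i * u) * (g * (i * u)⁻¹) := mul_assoc _ _ _
        _ = g⁻¹ := by rw [h5, mul_inv_rev, mul_inv_cancel_left]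
    obtain ⟨m, hm⟩ := h.odd_of_fixed hz (carrier_fixes hi hu hiz huz).1
      (carrier_fixes hi hu hiz huz).2
    have hgo : Odd (orderOf g) := h.odd_of_fixed hz hgm.1.1 hgm.1.2
    have hg1 : g = 1 := by
      refine eq_one_of_eq_inv_of_odd ?_ hgo
      have hpow : ∀ x : G, x * g * x⁻¹ = g⁻¹ → ∀ l : ℕ,
          x ^ (2 * l + 1) * g * (x ^ (2 * l + 1))⁻¹ = g⁻¹ := by
        intro x hx l
        induction l with
        | zero => simpa using hx
        | succ l ih =>
          calc x ^ (2 * (l + 1) + 1) * g * (x ^ (2 * (l + 1) + 1))⁻¹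
              = x * (x * (x ^ (2 * l + 1) * g * (x ^ (2 * l + 1))⁻¹) * x⁻¹) * x⁻¹ := by
                rw [show 2 * (l + 1) + 1 = 2 * l + 1 + 1 + 1 by ring, pow_succ', pow_succ']; group
            _ = g⁻¹ := by
                rw [ih, show x * g⁻¹ * x⁻¹ = (x * g * x⁻¹)⁻¹ by group, hx, inv_inv, hx]
      rw [← hpow _ hxg m, ← hm, pow_orderOf_eq_one, one_mul, inv_one, mul_one]
    rw [hg1, one_mul] at hgx
    rw [hg, inv_mul_eq_one] at hg1
    obtain rfl := mul_right_cancel hgx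
    obtain rfl := hg1
    rfl
  have h2 : Nat.card D ≤ Nat.card DC * Nat.card Car := by
    have hfac : ∀ d : D, ∃ p : DC × Car, (d : G) = (p.2 : G) * u * (p.1 : G) := by
      rintro ⟨d, hd⟩
      obtain ⟨i, hi, hiz, hc⟩ := h.exists_factor (h.mem_H_iff.2 hd.1) hz hu huz
      have hiu : i * u ∈ D := ⟨(carrier_fixes hi hu hiz huz).1, (carrier_fixes hi hu hiz huz).2⟩
      exact ⟨(⟨_, D.mul_mem (D.inv_mem hiu) hd, hc⟩, ⟨i, hi, hiz⟩), (mul_inv_cancel_left _ _).symm⟩
    choose p hp using hfac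
    rw [← Nat.card_prod]
    exact Nat.card_le_card_of_injective p fun d e hde => Subtype.ext (by rw [hp d, hp e, hde])
  have hle : Nat.card Du ≤ Nat.card DC := Nat.le_of_mul_le_mul_right (h1.trans h2) hCar
  -- every prime of `D ⊓ C` has its full power in `D_u`
  obtain ⟨t, htT, ht⟩ := h.exists_invol
  have hpart : ∀ r : ℕ, r.Prime → r ∣ Nat.card DC →
      r ^ (Nat.card D).factorization r ∣ Nat.card Du := by
    intro r hr hrd
    haveI := Fact.mk hr
    obtain ⟨⟨c, hc⟩, hco⟩ := exists_prime_orderOf_dvd_card' r hrd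
    rw [orderOf_mk] at hco
    have hr2 : r ≠ 2 := by
      rintro rfl
      exact absurd (hDodd.of_dvd_nat ((hrd.trans (Subgroup.card_dvd_of_le inf_le_left)))) (by decide)
    obtain ⟨P, hP⟩ := exists_invariant_sylow hDodd hu hDn r
    set Q := (P : Subgroup D).map D.subtype with hQ
    have hQr : IsPGroup r Q := P.isPGroup'.map _
    have hQu : Q ≤ Du := fun w hw => ⟨Subgroup.map_subtype_le _ hw, mem_centralizer_singleton.2
      (h.noInv.commute hr2 ht hco (mem_centralizer_iff.1 hc.2 t htT) hQr hu hP hw)⟩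
    have := Subgroup.card_dvd_of_le hQu
    rwa [hQ, Subgroup.card_map_of_injective D.subtype_injective, P.card_eq_multiplicity] at this
  have hDC0 : Nat.card DC ≠ 0 := Nat.card_pos.ne'
  have hD0 : Nat.card D ≠ 0 := Nat.card_pos.ne'
  have hdvd : Nat.card DC ∣ Nat.card Du := by
    refine (Nat.dvd_iff_prime_pow_dvd_dvd _ _).2 fun r k hr hrk => ?_
    rcases k with _ | k
    · simp
    refine dvd_trans ?_ (hpart r hr ((dvd_pow_self r k.succ_ne_zero).trans hrk))
    exact pow_dvd_pow r ((hr.pow_dvd_iff_le_factorization hD0).1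
      (hrk.trans (Subgroup.card_dvd_of_le inf_le_left)))
  have heq : Nat.card Du = Nat.card DC := le_antisymm hle (Nat.le_of_dvd Nat.card_pos hdvd)
  -- so `D_u = D ⊓ C`
  haveI hnor : (DC.subgroupOf D).Normal := ⟨fun x hx g => by
    have hx' : (x : G) ∈ 𝐂 := (mem_subgroupOf.1 hx).2
    exact mem_subgroupOf.2 ⟨(g * x * g⁻¹).2, h.conj_mem_C (h.mem_H_iff.2 g.2.1) hx'⟩⟩
  have hcop : (Nat.card DC).Coprime (DC.subgroupOf D).index := by
    refine Nat.coprime_of_dvd fun r hr hrd hri => ?_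
    have h3 := hpart r hr hrd
    rw [heq] at h3
    have h4 : r ^ ((Nat.card D).factorization r + 1) ∣ Nat.card D := by
      have e : Nat.card DC * (DC.subgroupOf D).index = Nat.card D := by
        rw [← Nat.card_congr (subgroupOfEquivOfLe (inf_le_left : DC ≤ D)).toEquiv,
          Subgroup.card_mul_index]
      rw [pow_succ]
      exact (mul_dvd_mul h3 hri).trans (dvd_of_eq e)
    have := (hr.pow_dvd_iff_le_factorization hD0).1 h4
    omega
  have hsub : Du ≤ DC := fun w hw => by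
    have h3 : (⟨w, hw.1⟩ : D) ^ (DC.subgroupOf D).index ∈ DC.subgroupOf D :=
      pow_index_mem _ _
    rw [mem_subgroupOf, SubgroupClass.coe_pow] at h3
    have h4 : w ^ Nat.card DC = 1 := by
      rw [← heq]
      exact orderOf_dvd_iff_pow_eq_one.1 (Subgroup.orderOf_dvd_natCard Du hw)
    obtain ⟨m, hm⟩ := exists_pow_eq_self_of_coprime (x := w) (n := (DC.subgroupOf D).index)
      ((hcop.symm.coprime_dvd_right (orderOf_dvd_of_pow_eq_one h4)))
    rw [← hm]
    exact pow_mem h3 m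
  have heq' : Du = DC := Subgroup.eq_of_le_of_card_ge hsub heq.ge
  have hyD : y ∈ DC := ⟨⟨h.mem_H_iff.1 (h.C_le_H hyC), hyz⟩, hyC⟩
  rw [← heq'] at hyD
  exact mem_centralizer_singleton.1 hyD.2

/-- An element of `C` fixing a second coset centralises the conjugate of `T` by a carrier. -/
theorem commute_conj {z : G ⧸ 𝐇} (hz : x₀ ≠ z) {u : G} (hu : orderOf u = 2) (huz : u • x₀ = z)
    {y : G} (hyC : y ∈ 𝐂) (hyz : y • z = z) {a : G} (ha : a ∈ T) : Commute (u * a * u⁻¹) y := by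
  have h1 := h.commute_carrier hz hu huz hyC hyz
  have h2 : Commute a y := mem_centralizer_iff.1 hyC a ha
  exact (h1.mul_left h2).mul_left h1.inv_left

/-- `C` is semiregular away from `H` if the centralisers of its elements of odd order lie in
`H`. -/
theorem C_free (hI : ∀ a ∈ 𝐂, Odd (orderOf a) → a ≠ 1 → centralizer ({a} : Set G) ≤ 𝐇) {a : G}
    (ha : a ∈ 𝐂) {z : G ⧸ 𝐇} (hz : x₀ ≠ z) (haz : a • z = z) : a = 1 := by
  by_contra ha1
  obtain ⟨u, hu, huz⟩ := h.exists_carrier hz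
  have hao := h.odd_of_fixed hz (h.mem_H_iff.1 (h.C_le_H ha)) haz
  have := hI a ha hao ha1 (mem_centralizer_singleton.2 (h.commute_carrier hz hu huz ha haz).symm)
  exact hz (by rw [← huz, h.mem_H_iff.1 this])

end Hyp

end CfsgLib.Recog.EqOrdConj
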