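import Cfsg.Agent.Lib.Recog.EqOrdConj.Local
import Cfsg.Agent.Lib.Recog.EqOrdConj.Bad
import Mathlib.GroupTheory.Focal

/-!
# `C(t)` larger than `C(T)`: a normal subgroup with `C(t) = C(T)`

If `|C(t) : C(T)| = r` is prime then a Sylow `r`-subgroup `P` of `C(t)` is a Sylow `r`-subgroup of
`G`, its focal subgroup lies in `C(T)` and the kernel of the transfer is `PSL₂(2ⁿ)`.
-/

set_option autoImplicit false
set_option linter.unusedSectionVars false
set_option linter.style.haveILetI false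
set_option linter.deprecated false
set_option linter.unusedVariables false
set_option maxHeartbeats 1600000

namespace CfsgLib.Recog.EqOrdConj

open Subgroup CfsgLib.Involutions

variable {G : Type*} [Group G] [Finite G] {T : Sylow 2 G}

/-- The hypotheses from all involutions of `T` being alike. -/
theorem Elem.hyp (h : Elem T) (hnn : ¬ (T : Subgroup G).Normal)
    (hc : ∀ t : G, orderOf t = 2 → t ∈ T →
      centralizer ({t} : Set G) = centralizer ((T : Subgroup G) : Set G)) : Hyp T where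
  four := h.four
  elem := h.elem
  nn := hnn
  cent := hc
  noInv := h.conj.noInv
  abelian := fun _ hr hr2 P hP => h.conj.abelian hr hr2 P hP

/-- If `⟨t⟩` is a Sylow `2`-subgroup of `K` then `t` centralises a Sylow `r`-subgroup of `K`. -/
theorem exists_centralised_sylow (hN : NoInv G) {r : ℕ} [hr : Fact r.Prime] (hr2 : r ≠ 2)
    {K : Subgroup G} {t : G} (ht : orderOf t = 2) (htK : t ∈ K) {c : G} (hco : orderOf c = r)
    (htc : Commute t c) (S : Sylow 2 K) (hSeq : (S : Subgroup K) = zpowers (⟨t, htK⟩ : K)) :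
    ∃ R : Subgroup G, IsPGroup r R ∧ R ≤ centralizer ({t} : Set G) ∧
      ∀ a, r ^ a ∣ Nat.card K → r ^ a ∣ Nat.card R := by
  haveI : Fact (Nat.Prime 2) := ⟨Nat.prime_two⟩
  haveI : IsCyclic (S : Subgroup K) := by rw [hSeq]; infer_instance
  have heven : 2 ∣ Nat.card K := by
    have := orderOf_dvd_natCard (⟨t, htK⟩ : K)
    rwa [orderOf_mk, ht] at this
  have hle := IsCyclic.normalizer_le_centralizer (P := S) ((Nat.minFac_eq_two_iff _).2 heven)
    inferInstance
  have hcompl := MonoidHom.ker_transferSylow_isComplement' S hle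
  obtain ⟨E, hE⟩ : ∃ E : Subgroup K, E = (MonoidHom.transferSylow S hle).ker := ⟨_, rfl⟩
  haveI hEn : E.Normal := hE ▸ MonoidHom.normal_ker _
  rw [← hE] at hcompl
  obtain ⟨D, hD⟩ : ∃ D : Subgroup G, D = E.map K.subtype := ⟨_, rfl⟩
  have hDodd : Odd (Nat.card D) := by
    rw [hD, card_map_of_injective K.subtype_injective, ← Nat.not_even_iff_odd, even_iff_two_dvd,
      ← hcompl.index_eq_card]
    exact S.not_dvd_index
  have hDn : ∀ d ∈ D, t * d * t⁻¹ ∈ D := fun d hd => by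
    rw [hD, mem_map] at hd ⊢
    obtain ⟨e, he, rfl⟩ := hd
    exact ⟨⟨t, htK⟩ * e * ⟨t, htK⟩⁻¹, hEn.conj_mem e he _, rfl⟩
  obtain ⟨R, hR⟩ := exists_invariant_sylow hDodd ht hDn r
  refine ⟨_, R.isPGroup'.map D.subtype, fun w hw => mem_centralizer_singleton.2
    (hN.commute hr2 ht hco htc (R.isPGroup'.map _) ht hR hw), fun a ha => ?_⟩
  have hK2 : Nat.card K = Nat.card D * 2 := by
    rw [hD, card_map_of_injective K.subtype_injective, ← hcompl.card_mul_card, hSeq, Nat.card_zpowers,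
      orderOf_mk, ht]
  have h1 : r ^ a ∣ Nat.card D := Nat.Coprime.dvd_of_dvd_mul_right
    (Nat.Coprime.pow_left _ ((Nat.coprime_primes hr.out Nat.prime_two).2 hr2)) (hK2 ▸ ha)
  rw [card_map_of_injective D.subtype_injective, R.card_eq_multiplicity]
  exact pow_dvd_pow r ((hr.out.pow_dvd_iff_le_factorization Nat.card_pos.ne').1 h1)

/-- The socle in the case `|C(t) : C(T)| = r`. -/
theorem Elem.exists_socle (h : Elem T) (hO : Cfsg.oddCore G = ⊥) (hnn : ¬ (T : Subgroup G).Normal)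
    {n r : ℕ} (hr : r.Prime) (hr2 : r ≠ 2) (hn : Nat.card (T : Subgroup G) = 2 ^ n)
    (hmod : ∀ k, 1 ≤ k → k < n → 2 ^ n ≡ 2 ^ k [MOD r] → k = 1) {t : G} (ht : orderOf t = 2)
    (htT : t ∈ T) (hidx : Nat.card (centralizer ({t} : Set G)) =
      r * Nat.card (centralizer ((T : Subgroup G) : Set G))) :
    ∃ (L : Subgroup G) (_ : L.Normal) (hle : (T : Subgroup G) ≤ L),
      ElemAbCent (T.subtype hle) ∧ ¬ r ∣ Nat.card L ∧
      Function.Injective (MulAut.conjNormal (H := L) : G →* MulAut L) := by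
  classical
  haveI := Fact.mk hr
  haveI : Fact (Nat.Prime 2) := ⟨Nat.prime_two⟩
  set C := centralizer ({t} : Set G) with hCdef
  set CT := centralizer ((T : Subgroup G) : Set G) with hCTdef
  have hCN : C ≤ normalizer ((T : Subgroup G) : Set G) := h.cent_le ht htT
  have hCTC : CT ≤ C := fun c hc => mem_centralizer_singleton.2 (mem_centralizer_iff.1 hc t htT)
  have hCTn : ∀ g ∈ normalizer ((T : Subgroup G) : Set G), ∀ c ∈ CT, g * c * g⁻¹ ∈ CT := by
    intro g hg c hc
    refine mem_centralizer_iff.2 fun x hx => ?_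
    have h1 := mem_centralizer_iff.1 hc (g⁻¹ * x * g) (by
      have e := (mem_normalizer_iff.1 (inv_mem hg) x).1 hx
      rwa [inv_inv] at e)
    calc x * (g * c * g⁻¹) = g * (g⁻¹ * x * g * c) * g⁻¹ := by group
      _ = g * c * g⁻¹ * x := by rw [h1]; group
  haveI hCn : (CT.subgroupOf C).Normal := ⟨fun c hc g =>
    mem_subgroupOf.2 (hCTn g (hCN g.2) c (mem_subgroupOf.1 hc))⟩
  have hqcard : Nat.card (C ⧸ CT.subgroupOf C) = r := by
    have h1 := card_eq_card_quotient_mul_card_subgroup (CT.subgroupOf C)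
    rw [hidx, Nat.card_congr (subgroupOfEquivOfLe hCTC).toEquiv] at h1
    exact (Nat.eq_of_mul_eq_mul_right Nat.card_pos h1).symm
  -- a Sylow `r`-subgroup of `C`
  obtain ⟨PC⟩ : Nonempty (Sylow r C) := inferInstance
  set P₀ : Subgroup G := (PC : Subgroup C).map C.subtype with hP₀
  have hP₀C : P₀ ≤ C := map_subtype_le _
  have hP₀p : IsPGroup r P₀ := PC.isPGroup'.map _
  obtain ⟨y, hyP, hyT⟩ : ∃ y ∈ P₀, y ∉ CT := by
    by_contra hall
    push Not at hall
    have hle : (PC : Subgroup C) ≤ CT.subgroupOf C := fun a ha =>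
      mem_subgroupOf.2 (hall _ (mem_map_of_mem _ ha))
    refine PC.not_dvd_index ?_
    rw [← relIndex_mul_index hle, Subgroup.index_eq_card, hqcard]
    exact dvd_mul_left _ _
  have hyC : y ∈ C := hP₀C hyP
  have hyN := hCN hyC
  -- `C_T(y) = {1, t}`
  have hfix : ∀ w ∈ T, Commute y w → w = 1 ∨ w = t := by
    set W : Subgroup G := (T : Subgroup G) ⊓ centralizer ({y} : Set G) with hW
    have hmem : ∀ (g : zpowers y) (a : (T : Subgroup G)), (g : G) * a * (g : G)⁻¹ ∈ (T : Subgroup G) :=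
      fun g a => (mem_normalizer_iff.1 ((zpowers_le.2 hyN) g.2) _).1 a.2
    letI : MulAction (zpowers y) (T : Subgroup G) :=
      { smul := fun g a => ⟨(g : G) * a * (g : G)⁻¹, hmem g a⟩
        one_smul := fun a => Subtype.ext (show ((1 : zpowers y) : G) * (a : G) * ((1 : zpowers y) : G)⁻¹ = a by simp)
        mul_smul := fun g g' a => Subtype.ext (show ((g : G) * g') * a * ((g : G) * g')⁻¹ =
          (g : G) * ((g' : G) * a * (g' : G)⁻¹) * (g : G)⁻¹ by group) }
    have hsmul : ∀ (g : zpowers y) (a : (T : Subgroup G)), ((g • a : (T : Subgroup G)) : G) =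
        (g : G) * a * (g : G)⁻¹ := fun g a => rfl
    have hyr : IsPGroup r (zpowers y) := hP₀p.to_le (zpowers_le.2 hyP)
    have hm := hyr.card_modEq_card_fixedPoints (T : Subgroup G)
    have hF : Nat.card (MulAction.fixedPoints (zpowers y) (T : Subgroup G)) = Nat.card W := by
      refine Nat.card_congr
        { toFun := fun a => ⟨a.1, a.1.2, mem_centralizer_singleton.2 ?_⟩
          invFun := fun a => ⟨⟨a.1, a.2.1⟩, fun g => Subtype.ext ?_⟩
          left_inv := fun a => rfl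
          right_inv := fun a => rfl }
      · have h1 := congrArg Subtype.val (a.2 ⟨y, mem_zpowers y⟩)
        rw [hsmul] at h1
        exact mul_inv_eq_iff_eq_mul.1 h1
      · obtain ⟨j, hj⟩ := mem_zpowers_iff.1 g.2
        rw [hsmul, ← hj, mul_inv_eq_iff_eq_mul]
        exact ((show Commute y (a : G) from mem_centralizer_singleton.1 a.2.2).zpow_left j).eq
    rw [hn, hF] at hm
    obtain ⟨k, hk⟩ := IsPGroup.iff_card.1 (T.isPGroup'.to_le (inf_le_left : W ≤ T))
    rw [hk] at hm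
    have htW : t ∈ W := mem_inf.2 ⟨htT, mem_centralizer_singleton.2
      (mem_centralizer_singleton.1 hyC : Commute t y).symm⟩
    have hk1 : 1 ≤ k := by
      by_contra hk0
      rw [show k = 0 by omega, pow_zero, Subgroup.card_eq_one] at hk
      have htW' : t ∈ (T : Subgroup G) ⊓ centralizer ({y} : Set G) := htW
      rw [hk, mem_bot] at htW'
      rw [htW', orderOf_one] at ht
      omega
    have hkn : k < n := by
      by_contra hkn
      have hWT : W = (T : Subgroup G) := Subgroup.eq_of_le_of_card_ge inf_le_left (by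
        rw [hn, hk]; exact Nat.pow_le_pow_right two_pos (not_lt.1 hkn))
      refine hyT (mem_centralizer_iff.2 fun a ha => ?_)
      have : a ∈ W := hWT.symm ▸ ha
      exact (mem_centralizer_singleton.1 this.2).symm
    have hk2 := hmod k hk1 hkn hm
    have hWz : zpowers t = W := Subgroup.eq_of_le_of_card_ge (zpowers_le.2 htW) (by
      rw [hk, hk2, Nat.card_zpowers, ht, pow_one])
    intro w hw hc
    have hwz : w ∈ zpowers t :=
      hWz.symm ▸ mem_inf.2 ⟨hw, mem_centralizer_singleton.2 hc⟩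
    obtain ⟨j, rfl⟩ := mem_zpowers_iff.1 hwz
    rcases Int.even_or_odd j with ⟨i, rfl⟩ | ⟨i, rfl⟩
    · left; rw [← two_mul, zpow_mul, zpow_two, h.elem t htT, one_zpow]
    · right; rw [zpow_add_one, zpow_mul, zpow_two, h.elem t htT, one_zpow, one_mul]
  -- the centraliser of `P₀`
  set K := centralizer (P₀ : Set G) with hK
  have htK : t ∈ K := mem_centralizer_iff.2 fun b hb =>
    (mem_centralizer_singleton.1 (hP₀C hb)).symm
  obtain ⟨S, hS⟩ := (IsPGroup.of_card (p := 2) (n := 1)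
    (show Nat.card (zpowers (⟨t, htK⟩ : K)) = 2 ^ 1 by
      rw [Nat.card_zpowers, orderOf_mk, ht, pow_one])).exists_le_sylow
  have hSeq : (S : Subgroup K) = zpowers (⟨t, htK⟩ : K) := by
    refine le_antisymm (fun s hs => ?_) hS
    obtain ⟨S', hS'⟩ := (S.isPGroup'.map K.subtype).exists_le_sylow
    obtain ⟨g, hg⟩ := MulAction.exists_smul_eq G T S'
    have hconj : ∀ x ∈ (S : Subgroup K), g⁻¹ * (x : G) * g ∈ T := fun x hx => by
      have h1 := hS' (mem_map_of_mem K.subtype hx)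
      rw [← hg] at h1
      obtain ⟨z, hz, e⟩ := h1
      rw [show g⁻¹ * (x : G) * g = z by rw [← show g * z * g⁻¹ = (x : G) from e]; group]
      exact hz
    have hst : Commute (s : G) t := by
      have h1 := h.comm_of_mem (hconj s hs) (hconj _ (hS (mem_zpowers _)))
      have h2 := h1.map (MulAut.conj g)
      simpa [mul_assoc] using h2
    have hsT : (s : G) ∈ T := by
      refine h.two_elt_mem ?_ (hCN (mem_centralizer_singleton.2 hst.symm))
      obtain ⟨j, hj⟩ := IsPGroup.iff_orderOf.1 S.isPGroup' ⟨s, hs⟩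
      exact ⟨j, by rw [orderOf_coe]; rwa [orderOf_mk] at hj⟩
    rcases hfix s hsT (mem_centralizer_iff.1 s.2 y hyP) with e | e
    · rw [show s = 1 from Subtype.ext e]; exact one_mem _
    · rw [show s = ⟨t, htK⟩ from Subtype.ext e]; exact mem_zpowers _
  obtain ⟨c, hcC, hco⟩ : ∃ c ∈ C, orderOf c = r := by
    have h1 : r ∣ Nat.card C := hidx ▸ dvd_mul_right _ _
    obtain ⟨⟨c, hc⟩, hco⟩ := exists_prime_orderOf_dvd_card' r h1
    exact ⟨c, hc, by rwa [orderOf_mk] at hco⟩
  obtain ⟨R₀, hR₀p, hR₀C, hR₀K⟩ := exists_centralised_sylow h.conj.noInv hr2 ht htK hco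
    (mem_centralizer_singleton.1 hcC) S hSeq
  obtain ⟨P, hP⟩ := hP₀p.exists_le_sylow
  haveI hPab : IsMulCommutative (P : Subgroup G) := h.conj.abelian hr hr2 _ P.isPGroup'
  have hPK : (P : Subgroup G) ≤ K := fun a ha => mem_centralizer_iff.2 fun b hb =>
    congrArg Subtype.val (hPab.is_comm.comm ⟨b, hP hb⟩ ⟨a, ha⟩)
  have hPeq : P₀ = (P : Subgroup G) := by
    refine Subgroup.eq_of_le_of_card_ge hP ?_
    obtain ⟨a, ha⟩ := IsPGroup.iff_card.1 P.isPGroup'
    obtain ⟨b, hb⟩ := IsPGroup.iff_card.1 hR₀p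
    have h3 : r ^ a ∣ Nat.card R₀ := hR₀K a (ha ▸ Subgroup.card_dvd_of_le hPK)
    have h4 : Nat.card R₀ ∣ Nat.card P₀ := by
      rw [hP₀, card_map_of_injective C.subtype_injective, PC.card_eq_multiplicity, hb]
      exact pow_dvd_pow r ((hr.pow_dvd_iff_le_factorization Nat.card_pos.ne').1
        (hb ▸ Subgroup.card_dvd_of_le hR₀C))
    rw [ha]
    exact Nat.le_of_dvd Nat.card_pos (h3.trans h4)
  -- the focal subgroup
  have hfocal : (P : Subgroup G).focalSubgroup ≤ CT := by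
    rw [focalSubgroup_def, closure_le]
    rintro _ ⟨hmem, b, hb, v, rfl⟩
    rw [commutatorElement_def] at hmem ⊢
    have hc : v * b⁻¹ * v⁻¹ ∈ (P : Subgroup G) := by
      have := mul_mem (inv_mem hb) hmem
      rwa [show b⁻¹ * (b * v * b⁻¹ * v⁻¹) = v * b⁻¹ * v⁻¹ by group] at this
    obtain ⟨m, hm, hme⟩ := P.conj_eq_normalizer_conj_of_mem b⁻¹ v⁻¹ (inv_mem hb) (by rwa [inv_inv])
    rw [inv_inv] at hme
    -- `m⁻¹` may be taken in `C`
    have hmK : m⁻¹ * t * m ∈ K := mem_centralizer_iff.2 fun w hw => by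
      have hw' : m * w * m⁻¹ ∈ (P₀ : Set G) := by
        rw [SetLike.mem_coe, hPeq]
        exact (mem_normalizer_iff.1 hm w).1 (hPeq ▸ hw)
      have h1 := mem_centralizer_iff.1 htK _ hw'
      calc w * (m⁻¹ * t * m) = m⁻¹ * (m * w * m⁻¹ * t) * m := by group
        _ = m⁻¹ * t * m * w := by rw [h1]; group
    have hto : orderOf (m⁻¹ * t * m) = 2 := by
      have := conj_invol m⁻¹ ht
      rwa [inv_inv] at this
    obtain ⟨S₂, hS₂⟩ := (IsPGroup.of_card (p := 2) (n := 1)
      (show Nat.card (zpowers (⟨_, hmK⟩ : K)) = 2 ^ 1 by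
        rw [Nat.card_zpowers, orderOf_mk, hto, pow_one])).exists_le_sylow
    obtain ⟨k, hk⟩ := MulAction.exists_smul_eq K S₂ S
    have hkm : k * (⟨_, hmK⟩ : K) * k⁻¹ = ⟨t, htK⟩ := by
      have h1 : k * (⟨_, hmK⟩ : K) * k⁻¹ ∈ (S : Subgroup K) :=
        hk ▸ ⟨_, hS₂ (mem_zpowers _), rfl⟩
      rw [hSeq] at h1
      obtain ⟨j, hj⟩ := mem_zpowers_iff.1 h1
      have hsq : (⟨t, htK⟩ : K) ^ (2 : ℤ) = 1 := Subtype.ext (by
        rw [SubgroupClass.coe_zpow, zpow_two, h.elem t htT, coe_one])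
      rcases Int.even_or_odd j with ⟨i, rfl⟩ | ⟨i, rfl⟩
      · exfalso
        rw [← two_mul, zpow_mul, hsq, one_zpow, eq_comm, conj_eq_one_iff] at hj
        rw [show m⁻¹ * t * m = 1 from congrArg Subtype.val hj, orderOf_one] at hto
        omega
      · rw [← hj, zpow_add_one, zpow_mul, hsq, one_zpow, one_mul]
    have hkm' : (k : G) * (m⁻¹ * t * m) * (k : G)⁻¹ = t := congrArg Subtype.val hkm
    have hkC : (k : G) * m⁻¹ ∈ C := by
      refine mem_centralizer_singleton.2 (Commute.symm ?_)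
      show (k : G) * m⁻¹ * t = t * ((k : G) * m⁻¹)
      calc (k : G) * m⁻¹ * t = (k : G) * (m⁻¹ * t * m) * (k : G)⁻¹ * ((k : G) * m⁻¹) := by group
        _ = t * ((k : G) * m⁻¹) := by rw [hkm']
    have hbC : b ∈ C := hP₀C (hPeq.symm ▸ hb)
    have he : v * b⁻¹ * v⁻¹ = ((k : G) * m⁻¹) * b⁻¹ * ((k : G) * m⁻¹)⁻¹ := by
      have h1 := mem_centralizer_iff.1 k.2 (v * b⁻¹ * v⁻¹) (hPeq.symm ▸ hc)
      rw [show ((k : G) * m⁻¹) * b⁻¹ * ((k : G) * m⁻¹)⁻¹ = (k : G) * (m⁻¹ * b⁻¹ * m) * (k : G)⁻¹ by group,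
        ← hme, ← h1, mul_inv_cancel_right]
    haveI : IsCyclic (C ⧸ CT.subgroupOf C) := isCyclic_of_prime_card hqcard
    letI : CommGroup (C ⧸ CT.subgroupOf C) := IsCyclic.commGroup
    have h2 : (⟨b, hbC⟩ : C) * ⟨_, hkC⟩ * (⟨b, hbC⟩ : C)⁻¹ * (⟨_, hkC⟩ : C)⁻¹ ∈ CT.subgroupOf C := by
      rw [← QuotientGroup.eq_one_iff]
      show QuotientGroup.mk' (CT.subgroupOf C) _ = 1
      rw [map_mul, map_mul, map_mul, map_inv, map_inv, mul_inv_cancel_comm, mul_inv_cancel]
    rw [SetLike.mem_coe,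
      show b * v * b⁻¹ * v⁻¹ = b * (v * b⁻¹ * v⁻¹) by group, he,
      show b * ((k : G) * m⁻¹ * b⁻¹ * ((k : G) * m⁻¹)⁻¹) =
        b * ((k : G) * m⁻¹) * b⁻¹ * ((k : G) * m⁻¹)⁻¹ by group]
    exact h2
  -- the kernel of the transfer
  set L := (P : Subgroup G).transferFocal.ker with hL
  have hLP : ∀ z ∈ L, z ∈ (P : Subgroup G) → z ∈ CT := fun z hz hz' => hfocal
    (ker_transferFocal_inf_eq_focalSubgroup P ▸ (mem_inf.2 ⟨hz, hz'⟩))
  have hTL : (T : Subgroup G) ≤ L := fun a ha => by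
    rw [hL, MonoidHom.mem_ker]
    obtain ⟨j, hj⟩ := IsPGroup.iff_orderOf.1 (P.isPGroup'.to_quotient (P : Subgroup G).focalSubgroupOf)
      ((P : Subgroup G).transferFocal a)
    have h1 : orderOf ((P : Subgroup G).transferFocal a) ∣ 2 :=
      (orderOf_map_dvd _ a).trans (orderOf_dvd_of_pow_eq_one (by rw [pow_two, h.elem a ha]))
    rw [hj] at h1
    rcases j with _ | j
    · rwa [pow_zero, orderOf_eq_one_iff] at hj
    · exact absurd ((Nat.prime_dvd_prime_iff_eq hr Nat.prime_two).1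
        ((dvd_pow_self r j.succ_ne_zero).trans h1)) hr2
  have hconjP : ∀ z ∈ C, (∃ j, orderOf z = r ^ j) → ∃ l ∈ C, l * z * l⁻¹ ∈ (P : Subgroup G) := by
    intro z hz ⟨j, hj⟩
    obtain ⟨Q, hQ⟩ := (IsPGroup.of_card (p := r) (n := j)
      (show Nat.card (zpowers (⟨z, hz⟩ : C)) = r ^ j by
        rw [Nat.card_zpowers, orderOf_mk, hj])).exists_le_sylow
    obtain ⟨l, hl⟩ := MulAction.exists_smul_eq C Q PC
    have h1 : l * (⟨z, hz⟩ : C) * l⁻¹ ∈ (PC : Subgroup C) := hl ▸ ⟨_, hQ (mem_zpowers _), rfl⟩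
    exact ⟨l, l.2, hPeq ▸ ⟨_, h1, rfl⟩⟩
  have hLC : ∀ c ∈ C, c ∈ L → c ∈ CT := by
    intro c hc hcL
    obtain ⟨m, hm⟩ : ∃ m, m = ordCompl[r] (orderOf c) := ⟨_, rfl⟩
    have hz : (⟨c, hc⟩ : C) ^ m ∈ CT.subgroupOf C := by
      obtain ⟨l, hl, hlP⟩ := hconjP (c ^ m) (pow_mem hc _) (by
        refine ((Nat.dvd_prime_pow hr).1
          (orderOf_dvd_of_pow_eq_one (n := ordProj[r] (orderOf c)) ?_)).imp fun j hj => hj.2
        rw [← pow_mul, hm, mul_comm, Nat.ordProj_mul_ordCompl_eq_self, pow_orderOf_eq_one])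
      have h1 := hLP _ ((MonoidHom.normal_ker _).conj_mem _ (pow_mem hcL m) l) hlP
      have h2 := hCTn l⁻¹ (inv_mem (hCN hl)) _ h1
      rw [inv_inv, show l⁻¹ * (l * c ^ m * l⁻¹) * l = c ^ m by group] at h2
      exact mem_subgroupOf.2 (by rw [SubgroupClass.coe_pow]; exact h2)
    rw [← QuotientGroup.eq_one_iff] at hz
    have h3 : orderOf (QuotientGroup.mk' (CT.subgroupOf C) ⟨c, hc⟩) ∣ m :=
      orderOf_dvd_of_pow_eq_one (by rw [← map_pow]; exact hz)
    have h4 : orderOf (QuotientGroup.mk' (CT.subgroupOf C) ⟨c, hc⟩) ∣ r :=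
      (_root_.orderOf_dvd_natCard _).trans (dvd_of_eq hqcard)
    rcases (Nat.dvd_prime hr).1 h4 with e | e
    · exact mem_subgroupOf.1 ((QuotientGroup.eq_one_iff _).1 (orderOf_eq_one_iff.1 e))
    · rw [e, hm] at h3
      exact absurd h3 (Nat.not_dvd_ordCompl hr (orderOf_pos c).ne')
  -- the hypotheses in `L`
  haveI hLn : L.Normal := MonoidHom.normal_ker _
  have hnnL : ¬ L ≤ normalizer ((T : Subgroup G) : Set G) := by
    intro hle
    refine hnn (normalizer_eq_top_iff.1 (eq_top_iff.2 fun g _ => ?_))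
    refine mem_normalizer_iff_map_conj_eq.2 (Subgroup.eq_of_le_of_card_ge ?_
      (card_map_of_injective (MulAut.conj g).injective).ge)
    rintro _ ⟨a, ha, rfl⟩
    show g * a * g⁻¹ ∈ T
    refine h.two_elt_mem ?_ (hle (hLn.conj_mem a (hTL ha) g))
    obtain ⟨j, hj⟩ := IsPGroup.iff_orderOf.1 T.isPGroup' ⟨a, ha⟩
    exact ⟨j, (orderOf_conj_eq g a).trans (by rw [← hj, orderOf_mk])⟩
  have hHyp : Hyp (T.subtype hTL) := by
    refine ⟨?_, fun a ha => Subtype.ext (h.elem (a : G) ?_), fun hn' => hnnL ?_, ?_, ?_, ?_⟩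
    · rw [Sylow.coe_subtype, Nat.card_congr (subgroupOfEquivOfLe hTL).toEquiv]
      exact h.four
    · change a ∈ (T.subtype hTL : Subgroup L) at ha
      rw [Sylow.coe_subtype] at ha
      exact mem_subgroupOf.1 ha
    · rw [Sylow.coe_subtype, normal_subgroupOf_iff_le_normalizer hTL] at hn'
      exact hn'
    · intro s hs hsT
      have hsT' : (s : G) ∈ T := by
        change s ∈ (T.subtype hTL : Subgroup L) at hsT
        rw [Sylow.coe_subtype] at hsT
        exact mem_subgroupOf.1 hsT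
      have hs' : orderOf (s : G) = 2 := by rw [orderOf_coe, hs]
      ext d
      constructor <;> intro hd
      · obtain ⟨g, hg, hgs⟩ := h.exists_conj hs' hsT' ht htT
        have hdC : g * (d : G) * g⁻¹ ∈ C := mem_centralizer_singleton.2 (hgs ▸
          ((mem_centralizer_singleton.1 hd : Commute s d).map L.subtype).map (MulAut.conj g))
        have h1 := hCTn g⁻¹ (inv_mem hg) _ (hLC _ hdC (hLn.conj_mem _ d.2 g))
        rw [inv_inv, show g⁻¹ * (g * (d : G) * g⁻¹) * g = (d : G) by group] at h1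
        refine mem_centralizer_iff.2 fun a ha => Subtype.ext ?_
        rw [SetLike.mem_coe, Sylow.coe_subtype, mem_subgroupOf] at ha
        exact mem_centralizer_iff.1 h1 _ ha
      · exact mem_centralizer_singleton.2 (mem_centralizer_iff.1 hd s hsT)
    · intro r' hr' hr'2 a c x u ha hc' hac hx hu hinv
      exact h.conj.noInv r' hr' hr'2 (a : G) (c : G) (x : G) (u : G) (by rw [orderOf_coe, ha])
        (by rw [orderOf_coe, hc']) (hac.map L.subtype) (by rw [orderOf_coe, hx])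
        (by rw [orderOf_coe, hu]) (congrArg Subtype.val hinv)
    · intro r' hr' hr'2 Q hQ
      haveI := h.conj.abelian hr' hr'2 (Q.map L.subtype) (hQ.map _)
      refine ⟨⟨fun a b => Subtype.ext (Subtype.ext ?_)⟩⟩
      show ((a : L) : G) * ((b : L) : G) = ((b : L) : G) * ((a : L) : G)
      exact congrArg Subtype.val ((inferInstance : IsMulCommutative (Q.map L.subtype)).is_comm.comm
        ⟨_, mem_map_of_mem L.subtype a.2⟩ ⟨_, mem_map_of_mem L.subtype b.2⟩)
  have hOL : Cfsg.oddCore L = ⊥ := by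
    have h2 : (Cfsg.oddCore L).map L.subtype ≤ Cfsg.oddCore G :=
      (CfsgLib.Base.map_pPrimeCore_eq_inf (p := 2) L).le.trans inf_le_left
    rw [hO, le_bot_iff, Subgroup.map_eq_bot_iff, L.ker_subtype, le_bot_iff] at h2
    exact h2
  have hE := hHyp.elemAbCent_of_oddCore hOL
  refine ⟨L, hLn, hTL, hE, fun hdvd => ?_, ?_⟩
  · -- `r` does not divide `|L|`
    obtain ⟨⟨z, hz⟩, hzo⟩ := exists_prime_orderOf_dvd_card' r hdvd
    rw [orderOf_mk] at hzo
    obtain ⟨Q, hQ⟩ := (IsPGroup.of_card (p := r) (n := 1)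
      (show Nat.card (zpowers z) = r ^ 1 by rw [Nat.card_zpowers, hzo, pow_one])).exists_le_sylow
    obtain ⟨g, hg⟩ := MulAction.exists_smul_eq G Q P
    have hzP : g * z * g⁻¹ ∈ (P : Subgroup G) := hg ▸ ⟨z, hQ (mem_zpowers z), rfl⟩
    have hzL : g * z * g⁻¹ ∈ L := hLn.conj_mem z hz g
    have hzC : g * z * g⁻¹ ∈ C := hP₀C (hPeq.symm ▸ hzP)
    have h2 := (hE.hC ⟨t, hTL htT⟩ (by rw [orderOf_mk, ht])).2 ⟨_, hzL⟩
      (mem_centralizer_singleton.2 (Subtype.ext (mem_centralizer_singleton.1 hzC : _ = _)))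
    have h3 : (g * z * g⁻¹) ^ 2 = 1 := congrArg Subtype.val h2
    have h4 := orderOf_dvd_of_pow_eq_one h3
    rw [orderOf_conj_eq, hzo] at h4
    exact hr2 ((Nat.prime_dvd_prime_iff_eq hr Nat.prime_two).1 h4)
  · -- the centraliser of `L` is trivial
    rw [← MonoidHom.ker_eq_bot_iff]
    set Z := (MulAut.conjNormal (H := L) : G →* MulAut L).ker with hZ
    have hZc : ∀ z ∈ Z, ∀ a ∈ L, Commute z a := fun z hz a ha => by
      have h1 := congrArg Subtype.val (DFunLike.congr_fun (MonoidHom.mem_ker.1 hz) ⟨a, ha⟩)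
      rw [MulAut.conjNormal_apply, MulAut.one_apply] at h1
      exact mul_inv_eq_iff_eq_mul.1 h1
    have hodd : Odd (Nat.card Z) := by
      rw [odd_card_iff]
      intro s hs hso
      have hsT : s ∈ T := h.two_elt_mem ⟨1, by rw [hso, pow_one]⟩ (centralizer_le_normalizer _
        (mem_centralizer_iff.2 fun a ha => (hZc s hs a (hTL ha)).eq.symm))
      apply hE.nn
      have h1 : ∀ a : L, a ^ 2 = 1 := fun a => (hE.hC ⟨s, hTL hsT⟩ (by rw [orderOf_mk, hso])).2 a
        (mem_centralizer_singleton.2 (Subtype.ext (hZc s hs a a.2).eq))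
      have hp : IsPGroup 2 (⊤ : Subgroup L) := fun a => ⟨1, Subtype.ext (by simpa using h1 a)⟩
      rw [← (T.subtype hTL).is_maximal' hp le_top]
      infer_instance
    haveI : Z.Normal := MonoidHom.normal_ker _
    have := CfsgLib.Base.le_oddCore (N := Z) hodd
    rwa [hO, le_bot_iff] at this

end CfsgLib.Recog.EqOrdConj
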